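import Cfsg.Agent.Helper5.ONB.ADat

/-! generated labelled Todd-Coxeter certificate: A -/

set_option autoImplicit false
set_option Elab.async false
set_option maxRecDepth 1000000

namespace Cfsg.Agent.Helper5.ONB.A
open Cfsg.Agent.Helper5.LTC

theorem rows_65 : tabRowsOK cert tab 1000 65000 = true := by decide +kernel

theorem rows_66 : tabRowsOK cert tab 1000 66000 = true := by decide +kernel

theorem rows_67 : tabRowsOK cert tab 1000 67000 = true := by decide +kernel

theorem rows_68 : tabRowsOK cert tab 1000 68000 = true := by decide +kernel

theorem rows_69 : tabRowsOK cert tab 1000 69000 = true := by decide +kernel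

end Cfsg.Agent.Helper5.ONB.A
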