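import Cfsg.Agent.Helper5.ONB.ADat

/-! generated labelled Todd-Coxeter certificate: A -/

set_option autoImplicit false
set_option Elab.async false
set_option maxRecDepth 1000000

namespace Cfsg.Agent.Helper5.ONB.A
open Cfsg.Agent.Helper5.LTC

theorem rows_80 : tabRowsOK cert tab 1000 80000 = true := by decide +kernel

theorem rows_81 : tabRowsOK cert tab 1000 81000 = true := by decide +kernel

theorem rows_82 : tabRowsOK cert tab 1000 82000 = true := by decide +kernel

theorem rows_83 : tabRowsOK cert tab 1000 83000 = true := by decide +kernel

theorem rows_84 : tabRowsOK cert tab 1000 84000 = true := by decide +kernel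

end Cfsg.Agent.Helper5.ONB.A
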