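import Cfsg.Agent.Helper5.ONB.ADat

/-! generated labelled Todd-Coxeter certificate: A -/

set_option autoImplicit false
set_option Elab.async false
set_option maxRecDepth 1000000

namespace Cfsg.Agent.Helper5.ONB.A
open Cfsg.Agent.Helper5.LTC

theorem rows_95 : tabRowsOK cert tab 1000 95000 = true := by decide +kernel

theorem rows_96 : tabRowsOK cert tab 1000 96000 = true := by decide +kernel

theorem rows_97 : tabRowsOK cert tab 1000 97000 = true := by decide +kernel

theorem rows_98 : tabRowsOK cert tab 784 98000 = true := by decide +kernel

end Cfsg.Agent.Helper5.ONB.A
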