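import Cfsg.Agent.Helper5.ONB.ADat

/-! generated labelled Todd-Coxeter certificate: A -/

set_option autoImplicit false
set_option Elab.async false
set_option maxRecDepth 1000000

namespace Cfsg.Agent.Helper5.ONB.A
open Cfsg.Agent.Helper5.LTC

theorem rows_20 : tabRowsOK cert tab 1000 20000 = true := by decide +kernel

theorem rows_21 : tabRowsOK cert tab 1000 21000 = true := by decide +kernel

theorem rows_22 : tabRowsOK cert tab 1000 22000 = true := by decide +kernel

theorem rows_23 : tabRowsOK cert tab 1000 23000 = true := by decide +kernel

theorem rows_24 : tabRowsOK cert tab 1000 24000 = true := by decide +kernel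

end Cfsg.Agent.Helper5.ONB.A
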