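import Cfsg.Agent.Helper5.ONB.ADat

/-! generated labelled Todd-Coxeter certificate: A -/

set_option autoImplicit false
set_option Elab.async false
set_option maxRecDepth 1000000

namespace Cfsg.Agent.Helper5.ONB.A
open Cfsg.Agent.Helper5.LTC

theorem rows_35 : tabRowsOK cert tab 1000 35000 = true := by decide +kernel

theorem rows_36 : tabRowsOK cert tab 1000 36000 = true := by decide +kernel

theorem rows_37 : tabRowsOK cert tab 1000 37000 = true := by decide +kernel

theorem rows_38 : tabRowsOK cert tab 1000 38000 = true := by decide +kernel

theorem rows_39 : tabRowsOK cert tab 1000 39000 = true := by decide +kernel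

end Cfsg.Agent.Helper5.ONB.A
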