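import Cfsg.Agent.Helper5.ONB.AJu0
import Cfsg.Agent.Helper5.ONB.AJu1
import Cfsg.Agent.Helper5.ONB.AJu2
import Cfsg.Agent.Helper5.ONB.AJu3
import Cfsg.Agent.Helper5.ONB.AJu4
import Cfsg.Agent.Helper5.ONB.AJu5
import Cfsg.Agent.Helper5.ONB.AJu6
import Cfsg.Agent.Helper5.ONB.AJu7
import Cfsg.Agent.Helper5.ONB.AJu8
import Cfsg.Agent.Helper5.ONB.AJu9
import Cfsg.Agent.Helper5.ONB.AJu10
import Cfsg.Agent.Helper5.ONB.AJu11
import Cfsg.Agent.Helper5.ONB.AJu12
import Cfsg.Agent.Helper5.ONB.AJu13
import Cfsg.Agent.Helper5.ONB.AJu14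
import Cfsg.Agent.Helper5.ONB.AJu15
import Cfsg.Agent.Helper5.ONB.AJu16
import Cfsg.Agent.Helper5.ONB.AJu17
import Cfsg.Agent.Helper5.ONB.AJu18
import Cfsg.Agent.Helper5.ONB.AJu19
import Cfsg.Agent.Helper5.ONB.ATb0
import Cfsg.Agent.Helper5.ONB.ATb1
import Cfsg.Agent.Helper5.ONB.ATb2
import Cfsg.Agent.Helper5.ONB.ATb3
import Cfsg.Agent.Helper5.ONB.ATb4
import Cfsg.Agent.Helper5.ONB.ATb5
import Cfsg.Agent.Helper5.ONB.ATb6
import Cfsg.Agent.Helper5.ONB.ATb7
import Cfsg.Agent.Helper5.ONB.ATb8
import Cfsg.Agent.Helper5.ONB.ATb9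
import Cfsg.Agent.Helper5.ONB.ATb10
import Cfsg.Agent.Helper5.ONB.ATb11
import Cfsg.Agent.Helper5.ONB.ATb12
import Cfsg.Agent.Helper5.ONB.ATb13
import Cfsg.Agent.Helper5.ONB.ATb14
import Cfsg.Agent.Helper5.ONB.ATb15
import Cfsg.Agent.Helper5.ONB.ATb16
import Cfsg.Agent.Helper5.ONB.ATb17
import Cfsg.Agent.Helper5.ONB.ATb18
import Cfsg.Agent.Helper5.ONB.ATb19

/-! generated labelled Todd-Coxeter certificate, summary: A -/

set_option autoImplicit false
set_option maxRecDepth 1000000

namespace Cfsg.Agent.Helper5.ONB.A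
open Cfsg.Agent.Helper5.LTC

theorem upto_0 : ∀ j, j < 0 → ∃ r, checkFact cert j r = true := fun j hj => absurd hj (by omega)

theorem upto_1 : ∀ j, j < 2500 → ∃ r, checkFact cert j r = true :=
  upto_step cert upto_0 ju_0 2500 len_0 chk_0

theorem upto_2 : ∀ j, j < 5000 → ∃ r, checkFact cert j r = true :=
  upto_step cert upto_1 ju_1 2500 len_1 chk_1

theorem upto_3 : ∀ j, j < 7500 → ∃ r, checkFact cert j r = true :=
  upto_step cert upto_2 ju_2 2500 len_2 chk_2

theorem upto_4 : ∀ j, j < 10000 → ∃ r, checkFact cert j r = true :=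
  upto_step cert upto_3 ju_3 2500 len_3 chk_3

theorem upto_5 : ∀ j, j < 12500 → ∃ r, checkFact cert j r = true :=
  upto_step cert upto_4 ju_4 2500 len_4 chk_4

theorem upto_6 : ∀ j, j < 15000 → ∃ r, checkFact cert j r = true :=
  upto_step cert upto_5 ju_5 2500 len_5 chk_5

theorem upto_7 : ∀ j, j < 17500 → ∃ r, checkFact cert j r = true :=
  upto_step cert upto_6 ju_6 2500 len_6 chk_6

theorem upto_8 : ∀ j, j < 20000 → ∃ r, checkFact cert j r = true :=
  upto_step cert upto_7 ju_7 2500 len_7 chk_7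

theorem upto_9 : ∀ j, j < 22500 → ∃ r, checkFact cert j r = true :=
  upto_step cert upto_8 ju_8 2500 len_8 chk_8

theorem upto_10 : ∀ j, j < 25000 → ∃ r, checkFact cert j r = true :=
  upto_step cert upto_9 ju_9 2500 len_9 chk_9

theorem upto_11 : ∀ j, j < 27500 → ∃ r, checkFact cert j r = true :=
  upto_step cert upto_10 ju_10 2500 len_10 chk_10

theorem upto_12 : ∀ j, j < 30000 → ∃ r, checkFact cert j r = true :=
  upto_step cert upto_11 ju_11 2500 len_11 chk_11

theorem upto_13 : ∀ j, j < 32500 → ∃ r, checkFact cert j r = true :=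
  upto_step cert upto_12 ju_12 2500 len_12 chk_12

theorem upto_14 : ∀ j, j < 35000 → ∃ r, checkFact cert j r = true :=
  upto_step cert upto_13 ju_13 2500 len_13 chk_13

theorem upto_15 : ∀ j, j < 37500 → ∃ r, checkFact cert j r = true :=
  upto_step cert upto_14 ju_14 2500 len_14 chk_14

theorem upto_16 : ∀ j, j < 40000 → ∃ r, checkFact cert j r = true :=
  upto_step cert upto_15 ju_15 2500 len_15 chk_15

theorem upto_17 : ∀ j, j < 42500 → ∃ r, checkFact cert j r = true :=
  upto_step cert upto_16 ju_16 2500 len_16 chk_16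

theorem upto_18 : ∀ j, j < 45000 → ∃ r, checkFact cert j r = true :=
  upto_step cert upto_17 ju_17 2500 len_17 chk_17

theorem upto_19 : ∀ j, j < 47500 → ∃ r, checkFact cert j r = true :=
  upto_step cert upto_18 ju_18 2500 len_18 chk_18

theorem upto_20 : ∀ j, j < 50000 → ∃ r, checkFact cert j r = true :=
  upto_step cert upto_19 ju_19 2500 len_19 chk_19

theorem upto_21 : ∀ j, j < 52500 → ∃ r, checkFact cert j r = true :=
  upto_step cert upto_20 ju_20 2500 len_20 chk_20

theorem upto_22 : ∀ j, j < 55000 → ∃ r, checkFact cert j r = true :=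
  upto_step cert upto_21 ju_21 2500 len_21 chk_21

theorem upto_23 : ∀ j, j < 57500 → ∃ r, checkFact cert j r = true :=
  upto_step cert upto_22 ju_22 2500 len_22 chk_22

theorem upto_24 : ∀ j, j < 60000 → ∃ r, checkFact cert j r = true :=
  upto_step cert upto_23 ju_23 2500 len_23 chk_23

theorem upto_25 : ∀ j, j < 62500 → ∃ r, checkFact cert j r = true :=
  upto_step cert upto_24 ju_24 2500 len_24 chk_24

theorem upto_26 : ∀ j, j < 65000 → ∃ r, checkFact cert j r = true :=
  upto_step cert upto_25 ju_25 2500 len_25 chk_25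

theorem upto_27 : ∀ j, j < 67500 → ∃ r, checkFact cert j r = true :=
  upto_step cert upto_26 ju_26 2500 len_26 chk_26

theorem upto_28 : ∀ j, j < 70000 → ∃ r, checkFact cert j r = true :=
  upto_step cert upto_27 ju_27 2500 len_27 chk_27

theorem upto_29 : ∀ j, j < 72500 → ∃ r, checkFact cert j r = true :=
  upto_step cert upto_28 ju_28 2500 len_28 chk_28

theorem upto_30 : ∀ j, j < 75000 → ∃ r, checkFact cert j r = true :=
  upto_step cert upto_29 ju_29 2500 len_29 chk_29

theorem upto_31 : ∀ j, j < 77500 → ∃ r, checkFact cert j r = true :=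
  upto_step cert upto_30 ju_30 2500 len_30 chk_30

theorem upto_32 : ∀ j, j < 80000 → ∃ r, checkFact cert j r = true :=
  upto_step cert upto_31 ju_31 2500 len_31 chk_31

theorem upto_33 : ∀ j, j < 82500 → ∃ r, checkFact cert j r = true :=
  upto_step cert upto_32 ju_32 2500 len_32 chk_32

theorem upto_34 : ∀ j, j < 85000 → ∃ r, checkFact cert j r = true :=
  upto_step cert upto_33 ju_33 2500 len_33 chk_33

theorem upto_35 : ∀ j, j < 87500 → ∃ r, checkFact cert j r = true :=
  upto_step cert upto_34 ju_34 2500 len_34 chk_34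

theorem upto_36 : ∀ j, j < 90000 → ∃ r, checkFact cert j r = true :=
  upto_step cert upto_35 ju_35 2500 len_35 chk_35

theorem upto_37 : ∀ j, j < 92500 → ∃ r, checkFact cert j r = true :=
  upto_step cert upto_36 ju_36 2500 len_36 chk_36

theorem upto_38 : ∀ j, j < 95000 → ∃ r, checkFact cert j r = true :=
  upto_step cert upto_37 ju_37 2500 len_37 chk_37

theorem upto_39 : ∀ j, j < 97500 → ∃ r, checkFact cert j r = true :=
  upto_step cert upto_38 ju_38 2500 len_38 chk_38

theorem upto_40 : ∀ j, j < 100000 → ∃ r, checkFact cert j r = true :=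
  upto_step cert upto_39 ju_39 2500 len_39 chk_39

theorem upto_41 : ∀ j, j < 102500 → ∃ r, checkFact cert j r = true :=
  upto_step cert upto_40 ju_40 2500 len_40 chk_40

theorem upto_42 : ∀ j, j < 105000 → ∃ r, checkFact cert j r = true :=
  upto_step cert upto_41 ju_41 2500 len_41 chk_41

theorem upto_43 : ∀ j, j < 107500 → ∃ r, checkFact cert j r = true :=
  upto_step cert upto_42 ju_42 2500 len_42 chk_42

theorem upto_44 : ∀ j, j < 110000 → ∃ r, checkFact cert j r = true :=
  upto_step cert upto_43 ju_43 2500 len_43 chk_43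

theorem upto_45 : ∀ j, j < 112500 → ∃ r, checkFact cert j r = true :=
  upto_step cert upto_44 ju_44 2500 len_44 chk_44

theorem upto_46 : ∀ j, j < 115000 → ∃ r, checkFact cert j r = true :=
  upto_step cert upto_45 ju_45 2500 len_45 chk_45

theorem upto_47 : ∀ j, j < 117500 → ∃ r, checkFact cert j r = true :=
  upto_step cert upto_46 ju_46 2500 len_46 chk_46

theorem upto_48 : ∀ j, j < 120000 → ∃ r, checkFact cert j r = true :=
  upto_step cert upto_47 ju_47 2500 len_47 chk_47

theorem upto_49 : ∀ j, j < 122500 → ∃ r, checkFact cert j r = true :=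
  upto_step cert upto_48 ju_48 2500 len_48 chk_48

theorem upto_50 : ∀ j, j < 125000 → ∃ r, checkFact cert j r = true :=
  upto_step cert upto_49 ju_49 2500 len_49 chk_49

theorem upto_51 : ∀ j, j < 127500 → ∃ r, checkFact cert j r = true :=
  upto_step cert upto_50 ju_50 2500 len_50 chk_50

theorem upto_52 : ∀ j, j < 130000 → ∃ r, checkFact cert j r = true :=
  upto_step cert upto_51 ju_51 2500 len_51 chk_51

theorem upto_53 : ∀ j, j < 132500 → ∃ r, checkFact cert j r = true :=
  upto_step cert upto_52 ju_52 2500 len_52 chk_52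

theorem upto_54 : ∀ j, j < 135000 → ∃ r, checkFact cert j r = true :=
  upto_step cert upto_53 ju_53 2500 len_53 chk_53

theorem upto_55 : ∀ j, j < 137500 → ∃ r, checkFact cert j r = true :=
  upto_step cert upto_54 ju_54 2500 len_54 chk_54

theorem upto_56 : ∀ j, j < 140000 → ∃ r, checkFact cert j r = true :=
  upto_step cert upto_55 ju_55 2500 len_55 chk_55

theorem upto_57 : ∀ j, j < 142500 → ∃ r, checkFact cert j r = true :=
  upto_step cert upto_56 ju_56 2500 len_56 chk_56

theorem upto_58 : ∀ j, j < 145000 → ∃ r, checkFact cert j r = true :=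
  upto_step cert upto_57 ju_57 2500 len_57 chk_57

theorem upto_59 : ∀ j, j < 147500 → ∃ r, checkFact cert j r = true :=
  upto_step cert upto_58 ju_58 2500 len_58 chk_58

theorem upto_60 : ∀ j, j < 150000 → ∃ r, checkFact cert j r = true :=
  upto_step cert upto_59 ju_59 2500 len_59 chk_59

theorem upto_61 : ∀ j, j < 152500 → ∃ r, checkFact cert j r = true :=
  upto_step cert upto_60 ju_60 2500 len_60 chk_60

theorem upto_62 : ∀ j, j < 155000 → ∃ r, checkFact cert j r = true :=
  upto_step cert upto_61 ju_61 2500 len_61 chk_61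

theorem upto_63 : ∀ j, j < 157500 → ∃ r, checkFact cert j r = true :=
  upto_step cert upto_62 ju_62 2500 len_62 chk_62

theorem upto_64 : ∀ j, j < 160000 → ∃ r, checkFact cert j r = true :=
  upto_step cert upto_63 ju_63 2500 len_63 chk_63

theorem upto_65 : ∀ j, j < 162500 → ∃ r, checkFact cert j r = true :=
  upto_step cert upto_64 ju_64 2500 len_64 chk_64

theorem upto_66 : ∀ j, j < 165000 → ∃ r, checkFact cert j r = true :=
  upto_step cert upto_65 ju_65 2500 len_65 chk_65

theorem upto_67 : ∀ j, j < 167500 → ∃ r, checkFact cert j r = true :=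
  upto_step cert upto_66 ju_66 2500 len_66 chk_66

theorem upto_68 : ∀ j, j < 170000 → ∃ r, checkFact cert j r = true :=
  upto_step cert upto_67 ju_67 2500 len_67 chk_67

theorem upto_69 : ∀ j, j < 172500 → ∃ r, checkFact cert j r = true :=
  upto_step cert upto_68 ju_68 2500 len_68 chk_68

theorem upto_70 : ∀ j, j < 175000 → ∃ r, checkFact cert j r = true :=
  upto_step cert upto_69 ju_69 2500 len_69 chk_69

theorem upto_71 : ∀ j, j < 177500 → ∃ r, checkFact cert j r = true :=
  upto_step cert upto_70 ju_70 2500 len_70 chk_70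

theorem upto_72 : ∀ j, j < 180000 → ∃ r, checkFact cert j r = true :=
  upto_step cert upto_71 ju_71 2500 len_71 chk_71

theorem upto_73 : ∀ j, j < 182500 → ∃ r, checkFact cert j r = true :=
  upto_step cert upto_72 ju_72 2500 len_72 chk_72

theorem upto_74 : ∀ j, j < 185000 → ∃ r, checkFact cert j r = true :=
  upto_step cert upto_73 ju_73 2500 len_73 chk_73

theorem upto_75 : ∀ j, j < 187500 → ∃ r, checkFact cert j r = true :=
  upto_step cert upto_74 ju_74 2500 len_74 chk_74

theorem upto_76 : ∀ j, j < 190000 → ∃ r, checkFact cert j r = true :=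
  upto_step cert upto_75 ju_75 2500 len_75 chk_75

theorem upto_77 : ∀ j, j < 192500 → ∃ r, checkFact cert j r = true :=
  upto_step cert upto_76 ju_76 2500 len_76 chk_76

theorem upto_78 : ∀ j, j < 195000 → ∃ r, checkFact cert j r = true :=
  upto_step cert upto_77 ju_77 2500 len_77 chk_77

theorem upto_79 : ∀ j, j < 197500 → ∃ r, checkFact cert j r = true :=
  upto_step cert upto_78 ju_78 2500 len_78 chk_78

theorem upto_80 : ∀ j, j < 197578 → ∃ r, checkFact cert j r = true :=
  upto_step cert upto_79 ju_79 78 len_79 chk_79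

theorem hchk : ∀ j, j < cert.nf → ∃ r, checkFact cert j r = true := upto_80

theorem rowsto_0 : ∀ n, n < 0 → ∀ x, x < cert.k → tabEntryOK cert tab n x = true :=
  fun n hn => absurd hn (by omega)

theorem rowsto_1 : ∀ n, n < 1000 → ∀ x, x < cert.k → tabEntryOK cert tab n x = true :=
  rows_step cert tab rowsto_0 1000 rows_0

theorem rowsto_2 : ∀ n, n < 2000 → ∀ x, x < cert.k → tabEntryOK cert tab n x = true :=
  rows_step cert tab rowsto_1 1000 rows_1

theorem rowsto_3 : ∀ n, n < 3000 → ∀ x, x < cert.k → tabEntryOK cert tab n x = true :=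
  rows_step cert tab rowsto_2 1000 rows_2

theorem rowsto_4 : ∀ n, n < 4000 → ∀ x, x < cert.k → tabEntryOK cert tab n x = true :=
  rows_step cert tab rowsto_3 1000 rows_3

theorem rowsto_5 : ∀ n, n < 5000 → ∀ x, x < cert.k → tabEntryOK cert tab n x = true :=
  rows_step cert tab rowsto_4 1000 rows_4

theorem rowsto_6 : ∀ n, n < 6000 → ∀ x, x < cert.k → tabEntryOK cert tab n x = true :=
  rows_step cert tab rowsto_5 1000 rows_5

theorem rowsto_7 : ∀ n, n < 7000 → ∀ x, x < cert.k → tabEntryOK cert tab n x = true :=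
  rows_step cert tab rowsto_6 1000 rows_6

theorem rowsto_8 : ∀ n, n < 8000 → ∀ x, x < cert.k → tabEntryOK cert tab n x = true :=
  rows_step cert tab rowsto_7 1000 rows_7

theorem rowsto_9 : ∀ n, n < 9000 → ∀ x, x < cert.k → tabEntryOK cert tab n x = true :=
  rows_step cert tab rowsto_8 1000 rows_8

theorem rowsto_10 : ∀ n, n < 10000 → ∀ x, x < cert.k → tabEntryOK cert tab n x = true :=
  rows_step cert tab rowsto_9 1000 rows_9

theorem rowsto_11 : ∀ n, n < 11000 → ∀ x, x < cert.k → tabEntryOK cert tab n x = true :=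
  rows_step cert tab rowsto_10 1000 rows_10

theorem rowsto_12 : ∀ n, n < 12000 → ∀ x, x < cert.k → tabEntryOK cert tab n x = true :=
  rows_step cert tab rowsto_11 1000 rows_11

theorem rowsto_13 : ∀ n, n < 13000 → ∀ x, x < cert.k → tabEntryOK cert tab n x = true :=
  rows_step cert tab rowsto_12 1000 rows_12

theorem rowsto_14 : ∀ n, n < 14000 → ∀ x, x < cert.k → tabEntryOK cert tab n x = true :=
  rows_step cert tab rowsto_13 1000 rows_13

theorem rowsto_15 : ∀ n, n < 15000 → ∀ x, x < cert.k → tabEntryOK cert tab n x = true :=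
  rows_step cert tab rowsto_14 1000 rows_14

theorem rowsto_16 : ∀ n, n < 16000 → ∀ x, x < cert.k → tabEntryOK cert tab n x = true :=
  rows_step cert tab rowsto_15 1000 rows_15

theorem rowsto_17 : ∀ n, n < 17000 → ∀ x, x < cert.k → tabEntryOK cert tab n x = true :=
  rows_step cert tab rowsto_16 1000 rows_16

theorem rowsto_18 : ∀ n, n < 18000 → ∀ x, x < cert.k → tabEntryOK cert tab n x = true :=
  rows_step cert tab rowsto_17 1000 rows_17

theorem rowsto_19 : ∀ n, n < 19000 → ∀ x, x < cert.k → tabEntryOK cert tab n x = true :=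
  rows_step cert tab rowsto_18 1000 rows_18

theorem rowsto_20 : ∀ n, n < 20000 → ∀ x, x < cert.k → tabEntryOK cert tab n x = true :=
  rows_step cert tab rowsto_19 1000 rows_19

theorem rowsto_21 : ∀ n, n < 21000 → ∀ x, x < cert.k → tabEntryOK cert tab n x = true :=
  rows_step cert tab rowsto_20 1000 rows_20

theorem rowsto_22 : ∀ n, n < 22000 → ∀ x, x < cert.k → tabEntryOK cert tab n x = true :=
  rows_step cert tab rowsto_21 1000 rows_21

theorem rowsto_23 : ∀ n, n < 23000 → ∀ x, x < cert.k → tabEntryOK cert tab n x = true :=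
  rows_step cert tab rowsto_22 1000 rows_22

theorem rowsto_24 : ∀ n, n < 24000 → ∀ x, x < cert.k → tabEntryOK cert tab n x = true :=
  rows_step cert tab rowsto_23 1000 rows_23

theorem rowsto_25 : ∀ n, n < 25000 → ∀ x, x < cert.k → tabEntryOK cert tab n x = true :=
  rows_step cert tab rowsto_24 1000 rows_24

theorem rowsto_26 : ∀ n, n < 26000 → ∀ x, x < cert.k → tabEntryOK cert tab n x = true :=
  rows_step cert tab rowsto_25 1000 rows_25

theorem rowsto_27 : ∀ n, n < 27000 → ∀ x, x < cert.k → tabEntryOK cert tab n x = true :=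
  rows_step cert tab rowsto_26 1000 rows_26

theorem rowsto_28 : ∀ n, n < 28000 → ∀ x, x < cert.k → tabEntryOK cert tab n x = true :=
  rows_step cert tab rowsto_27 1000 rows_27

theorem rowsto_29 : ∀ n, n < 29000 → ∀ x, x < cert.k → tabEntryOK cert tab n x = true :=
  rows_step cert tab rowsto_28 1000 rows_28

theorem rowsto_30 : ∀ n, n < 30000 → ∀ x, x < cert.k → tabEntryOK cert tab n x = true :=
  rows_step cert tab rowsto_29 1000 rows_29

theorem rowsto_31 : ∀ n, n < 31000 → ∀ x, x < cert.k → tabEntryOK cert tab n x = true :=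
  rows_step cert tab rowsto_30 1000 rows_30

theorem rowsto_32 : ∀ n, n < 32000 → ∀ x, x < cert.k → tabEntryOK cert tab n x = true :=
  rows_step cert tab rowsto_31 1000 rows_31

theorem rowsto_33 : ∀ n, n < 33000 → ∀ x, x < cert.k → tabEntryOK cert tab n x = true :=
  rows_step cert tab rowsto_32 1000 rows_32

theorem rowsto_34 : ∀ n, n < 34000 → ∀ x, x < cert.k → tabEntryOK cert tab n x = true :=
  rows_step cert tab rowsto_33 1000 rows_33

theorem rowsto_35 : ∀ n, n < 35000 → ∀ x, x < cert.k → tabEntryOK cert tab n x = true :=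
  rows_step cert tab rowsto_34 1000 rows_34

theorem rowsto_36 : ∀ n, n < 36000 → ∀ x, x < cert.k → tabEntryOK cert tab n x = true :=
  rows_step cert tab rowsto_35 1000 rows_35

theorem rowsto_37 : ∀ n, n < 37000 → ∀ x, x < cert.k → tabEntryOK cert tab n x = true :=
  rows_step cert tab rowsto_36 1000 rows_36

theorem rowsto_38 : ∀ n, n < 38000 → ∀ x, x < cert.k → tabEntryOK cert tab n x = true :=
  rows_step cert tab rowsto_37 1000 rows_37

theorem rowsto_39 : ∀ n, n < 39000 → ∀ x, x < cert.k → tabEntryOK cert tab n x = true :=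
  rows_step cert tab rowsto_38 1000 rows_38

theorem rowsto_40 : ∀ n, n < 40000 → ∀ x, x < cert.k → tabEntryOK cert tab n x = true :=
  rows_step cert tab rowsto_39 1000 rows_39

theorem rowsto_41 : ∀ n, n < 41000 → ∀ x, x < cert.k → tabEntryOK cert tab n x = true :=
  rows_step cert tab rowsto_40 1000 rows_40

theorem rowsto_42 : ∀ n, n < 42000 → ∀ x, x < cert.k → tabEntryOK cert tab n x = true :=
  rows_step cert tab rowsto_41 1000 rows_41

theorem rowsto_43 : ∀ n, n < 43000 → ∀ x, x < cert.k → tabEntryOK cert tab n x = true :=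
  rows_step cert tab rowsto_42 1000 rows_42

theorem rowsto_44 : ∀ n, n < 44000 → ∀ x, x < cert.k → tabEntryOK cert tab n x = true :=
  rows_step cert tab rowsto_43 1000 rows_43

theorem rowsto_45 : ∀ n, n < 45000 → ∀ x, x < cert.k → tabEntryOK cert tab n x = true :=
  rows_step cert tab rowsto_44 1000 rows_44

theorem rowsto_46 : ∀ n, n < 46000 → ∀ x, x < cert.k → tabEntryOK cert tab n x = true :=
  rows_step cert tab rowsto_45 1000 rows_45

theorem rowsto_47 : ∀ n, n < 47000 → ∀ x, x < cert.k → tabEntryOK cert tab n x = true :=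
  rows_step cert tab rowsto_46 1000 rows_46

theorem rowsto_48 : ∀ n, n < 48000 → ∀ x, x < cert.k → tabEntryOK cert tab n x = true :=
  rows_step cert tab rowsto_47 1000 rows_47

theorem rowsto_49 : ∀ n, n < 49000 → ∀ x, x < cert.k → tabEntryOK cert tab n x = true :=
  rows_step cert tab rowsto_48 1000 rows_48

theorem rowsto_50 : ∀ n, n < 50000 → ∀ x, x < cert.k → tabEntryOK cert tab n x = true :=
  rows_step cert tab rowsto_49 1000 rows_49

theorem rowsto_51 : ∀ n, n < 51000 → ∀ x, x < cert.k → tabEntryOK cert tab n x = true :=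
  rows_step cert tab rowsto_50 1000 rows_50

theorem rowsto_52 : ∀ n, n < 52000 → ∀ x, x < cert.k → tabEntryOK cert tab n x = true :=
  rows_step cert tab rowsto_51 1000 rows_51

theorem rowsto_53 : ∀ n, n < 53000 → ∀ x, x < cert.k → tabEntryOK cert tab n x = true :=
  rows_step cert tab rowsto_52 1000 rows_52

theorem rowsto_54 : ∀ n, n < 54000 → ∀ x, x < cert.k → tabEntryOK cert tab n x = true :=
  rows_step cert tab rowsto_53 1000 rows_53

theorem rowsto_55 : ∀ n, n < 55000 → ∀ x, x < cert.k → tabEntryOK cert tab n x = true :=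
  rows_step cert tab rowsto_54 1000 rows_54

theorem rowsto_56 : ∀ n, n < 56000 → ∀ x, x < cert.k → tabEntryOK cert tab n x = true :=
  rows_step cert tab rowsto_55 1000 rows_55

theorem rowsto_57 : ∀ n, n < 57000 → ∀ x, x < cert.k → tabEntryOK cert tab n x = true :=
  rows_step cert tab rowsto_56 1000 rows_56

theorem rowsto_58 : ∀ n, n < 58000 → ∀ x, x < cert.k → tabEntryOK cert tab n x = true :=
  rows_step cert tab rowsto_57 1000 rows_57

theorem rowsto_59 : ∀ n, n < 59000 → ∀ x, x < cert.k → tabEntryOK cert tab n x = true :=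
  rows_step cert tab rowsto_58 1000 rows_58

theorem rowsto_60 : ∀ n, n < 60000 → ∀ x, x < cert.k → tabEntryOK cert tab n x = true :=
  rows_step cert tab rowsto_59 1000 rows_59

theorem rowsto_61 : ∀ n, n < 61000 → ∀ x, x < cert.k → tabEntryOK cert tab n x = true :=
  rows_step cert tab rowsto_60 1000 rows_60

theorem rowsto_62 : ∀ n, n < 62000 → ∀ x, x < cert.k → tabEntryOK cert tab n x = true :=
  rows_step cert tab rowsto_61 1000 rows_61

theorem rowsto_63 : ∀ n, n < 63000 → ∀ x, x < cert.k → tabEntryOK cert tab n x = true :=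
  rows_step cert tab rowsto_62 1000 rows_62

theorem rowsto_64 : ∀ n, n < 64000 → ∀ x, x < cert.k → tabEntryOK cert tab n x = true :=
  rows_step cert tab rowsto_63 1000 rows_63

theorem rowsto_65 : ∀ n, n < 65000 → ∀ x, x < cert.k → tabEntryOK cert tab n x = true :=
  rows_step cert tab rowsto_64 1000 rows_64

theorem rowsto_66 : ∀ n, n < 66000 → ∀ x, x < cert.k → tabEntryOK cert tab n x = true :=
  rows_step cert tab rowsto_65 1000 rows_65

theorem rowsto_67 : ∀ n, n < 67000 → ∀ x, x < cert.k → tabEntryOK cert tab n x = true :=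
  rows_step cert tab rowsto_66 1000 rows_66

theorem rowsto_68 : ∀ n, n < 68000 → ∀ x, x < cert.k → tabEntryOK cert tab n x = true :=
  rows_step cert tab rowsto_67 1000 rows_67

theorem rowsto_69 : ∀ n, n < 69000 → ∀ x, x < cert.k → tabEntryOK cert tab n x = true :=
  rows_step cert tab rowsto_68 1000 rows_68

theorem rowsto_70 : ∀ n, n < 70000 → ∀ x, x < cert.k → tabEntryOK cert tab n x = true :=
  rows_step cert tab rowsto_69 1000 rows_69

theorem rowsto_71 : ∀ n, n < 71000 → ∀ x, x < cert.k → tabEntryOK cert tab n x = true :=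
  rows_step cert tab rowsto_70 1000 rows_70

theorem rowsto_72 : ∀ n, n < 72000 → ∀ x, x < cert.k → tabEntryOK cert tab n x = true :=
  rows_step cert tab rowsto_71 1000 rows_71

theorem rowsto_73 : ∀ n, n < 73000 → ∀ x, x < cert.k → tabEntryOK cert tab n x = true :=
  rows_step cert tab rowsto_72 1000 rows_72

theorem rowsto_74 : ∀ n, n < 74000 → ∀ x, x < cert.k → tabEntryOK cert tab n x = true :=
  rows_step cert tab rowsto_73 1000 rows_73

theorem rowsto_75 : ∀ n, n < 75000 → ∀ x, x < cert.k → tabEntryOK cert tab n x = true :=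
  rows_step cert tab rowsto_74 1000 rows_74

theorem rowsto_76 : ∀ n, n < 76000 → ∀ x, x < cert.k → tabEntryOK cert tab n x = true :=
  rows_step cert tab rowsto_75 1000 rows_75

theorem rowsto_77 : ∀ n, n < 77000 → ∀ x, x < cert.k → tabEntryOK cert tab n x = true :=
  rows_step cert tab rowsto_76 1000 rows_76

theorem rowsto_78 : ∀ n, n < 78000 → ∀ x, x < cert.k → tabEntryOK cert tab n x = true :=
  rows_step cert tab rowsto_77 1000 rows_77

theorem rowsto_79 : ∀ n, n < 79000 → ∀ x, x < cert.k → tabEntryOK cert tab n x = true :=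
  rows_step cert tab rowsto_78 1000 rows_78

theorem rowsto_80 : ∀ n, n < 80000 → ∀ x, x < cert.k → tabEntryOK cert tab n x = true :=
  rows_step cert tab rowsto_79 1000 rows_79

theorem rowsto_81 : ∀ n, n < 81000 → ∀ x, x < cert.k → tabEntryOK cert tab n x = true :=
  rows_step cert tab rowsto_80 1000 rows_80

theorem rowsto_82 : ∀ n, n < 82000 → ∀ x, x < cert.k → tabEntryOK cert tab n x = true :=
  rows_step cert tab rowsto_81 1000 rows_81

theorem rowsto_83 : ∀ n, n < 83000 → ∀ x, x < cert.k → tabEntryOK cert tab n x = true :=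
  rows_step cert tab rowsto_82 1000 rows_82

theorem rowsto_84 : ∀ n, n < 84000 → ∀ x, x < cert.k → tabEntryOK cert tab n x = true :=
  rows_step cert tab rowsto_83 1000 rows_83

theorem rowsto_85 : ∀ n, n < 85000 → ∀ x, x < cert.k → tabEntryOK cert tab n x = true :=
  rows_step cert tab rowsto_84 1000 rows_84

theorem rowsto_86 : ∀ n, n < 86000 → ∀ x, x < cert.k → tabEntryOK cert tab n x = true :=
  rows_step cert tab rowsto_85 1000 rows_85

theorem rowsto_87 : ∀ n, n < 87000 → ∀ x, x < cert.k → tabEntryOK cert tab n x = true :=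
  rows_step cert tab rowsto_86 1000 rows_86

theorem rowsto_88 : ∀ n, n < 88000 → ∀ x, x < cert.k → tabEntryOK cert tab n x = true :=
  rows_step cert tab rowsto_87 1000 rows_87

theorem rowsto_89 : ∀ n, n < 89000 → ∀ x, x < cert.k → tabEntryOK cert tab n x = true :=
  rows_step cert tab rowsto_88 1000 rows_88

theorem rowsto_90 : ∀ n, n < 90000 → ∀ x, x < cert.k → tabEntryOK cert tab n x = true :=
  rows_step cert tab rowsto_89 1000 rows_89

theorem rowsto_91 : ∀ n, n < 91000 → ∀ x, x < cert.k → tabEntryOK cert tab n x = true :=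
  rows_step cert tab rowsto_90 1000 rows_90

theorem rowsto_92 : ∀ n, n < 92000 → ∀ x, x < cert.k → tabEntryOK cert tab n x = true :=
  rows_step cert tab rowsto_91 1000 rows_91

theorem rowsto_93 : ∀ n, n < 93000 → ∀ x, x < cert.k → tabEntryOK cert tab n x = true :=
  rows_step cert tab rowsto_92 1000 rows_92

theorem rowsto_94 : ∀ n, n < 94000 → ∀ x, x < cert.k → tabEntryOK cert tab n x = true :=
  rows_step cert tab rowsto_93 1000 rows_93

theorem rowsto_95 : ∀ n, n < 95000 → ∀ x, x < cert.k → tabEntryOK cert tab n x = true :=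
  rows_step cert tab rowsto_94 1000 rows_94

theorem rowsto_96 : ∀ n, n < 96000 → ∀ x, x < cert.k → tabEntryOK cert tab n x = true :=
  rows_step cert tab rowsto_95 1000 rows_95

theorem rowsto_97 : ∀ n, n < 97000 → ∀ x, x < cert.k → tabEntryOK cert tab n x = true :=
  rows_step cert tab rowsto_96 1000 rows_96

theorem rowsto_98 : ∀ n, n < 98000 → ∀ x, x < cert.k → tabEntryOK cert tab n x = true :=
  rows_step cert tab rowsto_97 1000 rows_97

theorem rowsto_99 : ∀ n, n < 98784 → ∀ x, x < cert.k → tabEntryOK cert tab n x = true :=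
  rows_step cert tab rowsto_98 784 rows_98

theorem hT : ∀ n, n < tab.N → ∀ x, x < cert.k → tabEntryOK cert tab n x = true := rowsto_99

theorem hjs : ∀ j ∈ js, relFactOK cert j = true := by decide +kernel

theorem h0 : ordOK cert js cs0 0 1 = true := by decide +kernel

theorem hgs : ∀ i, i < 5 → genOK cert js (css.getD i []) i 0 (as_.getD i 0) = true := by decide +kernel

end Cfsg.Agent.Helper5.ONB.A
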