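import Cfsg.Agent.Helper5.ONB.BDat

/-! generated labelled Todd-Coxeter certificate: B -/

set_option autoImplicit false
set_option Elab.async false
set_option maxRecDepth 1000000

namespace Cfsg.Agent.Helper5.ONB.B
open Cfsg.Agent.Helper5.LTC

theorem rows_175 : tabRowsOK cert tab 1000 175000 = true := by decide +kernel

theorem rows_176 : tabRowsOK cert tab 1000 176000 = true := by decide +kernel

theorem rows_177 : tabRowsOK cert tab 1000 177000 = true := by decide +kernel

theorem rows_178 : tabRowsOK cert tab 1000 178000 = true := by decide +kernel

theorem rows_179 : tabRowsOK cert tab 1000 179000 = true := by decide +kernel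

end Cfsg.Agent.Helper5.ONB.B
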