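import Cfsg.Agent.Helper5.ONB.BDat

/-! generated labelled Todd-Coxeter certificate: B -/

set_option autoImplicit false
set_option Elab.async false
set_option maxRecDepth 1000000

namespace Cfsg.Agent.Helper5.ONB.B
open Cfsg.Agent.Helper5.LTC

theorem rows_220 : tabRowsOK cert tab 1000 220000 = true := by decide +kernel

theorem rows_221 : tabRowsOK cert tab 1000 221000 = true := by decide +kernel

theorem rows_222 : tabRowsOK cert tab 1000 222000 = true := by decide +kernel

theorem rows_223 : tabRowsOK cert tab 1000 223000 = true := by decide +kernel

theorem rows_224 : tabRowsOK cert tab 1000 224000 = true := by decide +kernel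

end Cfsg.Agent.Helper5.ONB.B
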