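import Cfsg.Agent.Helper5.ONB.BJu0
import Cfsg.Agent.Helper5.ONB.BJu1
import Cfsg.Agent.Helper5.ONB.BJu2
import Cfsg.Agent.Helper5.ONB.BJu3
import Cfsg.Agent.Helper5.ONB.BJu4
import Cfsg.Agent.Helper5.ONB.BJu5
import Cfsg.Agent.Helper5.ONB.BJu6
import Cfsg.Agent.Helper5.ONB.BJu7
import Cfsg.Agent.Helper5.ONB.BJu8
import Cfsg.Agent.Helper5.ONB.BJu9
import Cfsg.Agent.Helper5.ONB.BJu10
import Cfsg.Agent.Helper5.ONB.BJu11
import Cfsg.Agent.Helper5.ONB.BJu12
import Cfsg.Agent.Helper5.ONB.BJu13
import Cfsg.Agent.Helper5.ONB.BJu14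
import Cfsg.Agent.Helper5.ONB.BJu15
import Cfsg.Agent.Helper5.ONB.BJu16
import Cfsg.Agent.Helper5.ONB.BJu17
import Cfsg.Agent.Helper5.ONB.BJu18
import Cfsg.Agent.Helper5.ONB.BJu19
import Cfsg.Agent.Helper5.ONB.BJu20
import Cfsg.Agent.Helper5.ONB.BJu21
import Cfsg.Agent.Helper5.ONB.BJu22
import Cfsg.Agent.Helper5.ONB.BJu23
import Cfsg.Agent.Helper5.ONB.BJu24
import Cfsg.Agent.Helper5.ONB.BJu25
import Cfsg.Agent.Helper5.ONB.BJu26
import Cfsg.Agent.Helper5.ONB.BJu27
import Cfsg.Agent.Helper5.ONB.BJu28
import Cfsg.Agent.Helper5.ONB.BJu29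
import Cfsg.Agent.Helper5.ONB.BJu30
import Cfsg.Agent.Helper5.ONB.BJu31
import Cfsg.Agent.Helper5.ONB.BJu32
import Cfsg.Agent.Helper5.ONB.BJu33
import Cfsg.Agent.Helper5.ONB.BJu34
import Cfsg.Agent.Helper5.ONB.BJu35
import Cfsg.Agent.Helper5.ONB.BJu36
import Cfsg.Agent.Helper5.ONB.BJu37
import Cfsg.Agent.Helper5.ONB.BJu38
import Cfsg.Agent.Helper5.ONB.BJu39
import Cfsg.Agent.Helper5.ONB.BJu40
import Cfsg.Agent.Helper5.ONB.BJu41
import Cfsg.Agent.Helper5.ONB.BJu42
import Cfsg.Agent.Helper5.ONB.BJu43
import Cfsg.Agent.Helper5.ONB.BJu44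
import Cfsg.Agent.Helper5.ONB.BJu45
import Cfsg.Agent.Helper5.ONB.BJu46
import Cfsg.Agent.Helper5.ONB.BJu47
import Cfsg.Agent.Helper5.ONB.BJu48
import Cfsg.Agent.Helper5.ONB.BJu49
import Cfsg.Agent.Helper5.ONB.BJu50
import Cfsg.Agent.Helper5.ONB.BJu51
import Cfsg.Agent.Helper5.ONB.BJu52
import Cfsg.Agent.Helper5.ONB.BJu53
import Cfsg.Agent.Helper5.ONB.BJu54
import Cfsg.Agent.Helper5.ONB.BJu55
import Cfsg.Agent.Helper5.ONB.BJu56
import Cfsg.Agent.Helper5.ONB.BJu57
import Cfsg.Agent.Helper5.ONB.BJu58
import Cfsg.Agent.Helper5.ONB.BJu59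
import Cfsg.Agent.Helper5.ONB.BJu60
import Cfsg.Agent.Helper5.ONB.BJu61
import Cfsg.Agent.Helper5.ONB.BJu62
import Cfsg.Agent.Helper5.ONB.BJu63
import Cfsg.Agent.Helper5.ONB.BJu64
import Cfsg.Agent.Helper5.ONB.BJu65
import Cfsg.Agent.Helper5.ONB.BJu66
import Cfsg.Agent.Helper5.ONB.BJu67
import Cfsg.Agent.Helper5.ONB.BJu68
import Cfsg.Agent.Helper5.ONB.BJu69
import Cfsg.Agent.Helper5.ONB.BJu70
import Cfsg.Agent.Helper5.ONB.BJu71
import Cfsg.Agent.Helper5.ONB.BJu72
import Cfsg.Agent.Helper5.ONB.BJu73
import Cfsg.Agent.Helper5.ONB.BJu74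
import Cfsg.Agent.Helper5.ONB.BJu75
import Cfsg.Agent.Helper5.ONB.BJu76
import Cfsg.Agent.Helper5.ONB.BJu77
import Cfsg.Agent.Helper5.ONB.BJu78
import Cfsg.Agent.Helper5.ONB.BJu79
import Cfsg.Agent.Helper5.ONB.BJu80
import Cfsg.Agent.Helper5.ONB.BJu81
import Cfsg.Agent.Helper5.ONB.BJu82
import Cfsg.Agent.Helper5.ONB.BJu83
import Cfsg.Agent.Helper5.ONB.BJu84
import Cfsg.Agent.Helper5.ONB.BJu85
import Cfsg.Agent.Helper5.ONB.BJu86
import Cfsg.Agent.Helper5.ONB.BJu87
import Cfsg.Agent.Helper5.ONB.BJu88
import Cfsg.Agent.Helper5.ONB.BJu89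
import Cfsg.Agent.Helper5.ONB.BJu90
import Cfsg.Agent.Helper5.ONB.BJu91
import Cfsg.Agent.Helper5.ONB.BJu92
import Cfsg.Agent.Helper5.ONB.BJu93
import Cfsg.Agent.Helper5.ONB.BTb0
import Cfsg.Agent.Helper5.ONB.BTb1
import Cfsg.Agent.Helper5.ONB.BTb2
import Cfsg.Agent.Helper5.ONB.BTb3
import Cfsg.Agent.Helper5.ONB.BTb4
import Cfsg.Agent.Helper5.ONB.BTb5
import Cfsg.Agent.Helper5.ONB.BTb6
import Cfsg.Agent.Helper5.ONB.BTb7
import Cfsg.Agent.Helper5.ONB.BTb8
import Cfsg.Agent.Helper5.ONB.BTb9
import Cfsg.Agent.Helper5.ONB.BTb10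
import Cfsg.Agent.Helper5.ONB.BTb11
import Cfsg.Agent.Helper5.ONB.BTb12
import Cfsg.Agent.Helper5.ONB.BTb13
import Cfsg.Agent.Helper5.ONB.BTb14
import Cfsg.Agent.Helper5.ONB.BTb15
import Cfsg.Agent.Helper5.ONB.BTb16
import Cfsg.Agent.Helper5.ONB.BTb17
import Cfsg.Agent.Helper5.ONB.BTb18
import Cfsg.Agent.Helper5.ONB.BTb19
import Cfsg.Agent.Helper5.ONB.BTb20
import Cfsg.Agent.Helper5.ONB.BTb21
import Cfsg.Agent.Helper5.ONB.BTb22
import Cfsg.Agent.Helper5.ONB.BTb23
import Cfsg.Agent.Helper5.ONB.BTb24
import Cfsg.Agent.Helper5.ONB.BTb25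
import Cfsg.Agent.Helper5.ONB.BTb26
import Cfsg.Agent.Helper5.ONB.BTb27
import Cfsg.Agent.Helper5.ONB.BTb28
import Cfsg.Agent.Helper5.ONB.BTb29
import Cfsg.Agent.Helper5.ONB.BTb30
import Cfsg.Agent.Helper5.ONB.BTb31
import Cfsg.Agent.Helper5.ONB.BTb32
import Cfsg.Agent.Helper5.ONB.BTb33
import Cfsg.Agent.Helper5.ONB.BTb34
import Cfsg.Agent.Helper5.ONB.BTb35
import Cfsg.Agent.Helper5.ONB.BTb36
import Cfsg.Agent.Helper5.ONB.BTb37
import Cfsg.Agent.Helper5.ONB.BTb38
import Cfsg.Agent.Helper5.ONB.BTb39
import Cfsg.Agent.Helper5.ONB.BTb40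
import Cfsg.Agent.Helper5.ONB.BTb41
import Cfsg.Agent.Helper5.ONB.BTb42
import Cfsg.Agent.Helper5.ONB.BTb43
import Cfsg.Agent.Helper5.ONB.BTb44
import Cfsg.Agent.Helper5.ONB.BTb45
import Cfsg.Agent.Helper5.ONB.BTb46
import Cfsg.Agent.Helper5.ONB.BTb47
import Cfsg.Agent.Helper5.ONB.BTb48
import Cfsg.Agent.Helper5.ONB.BTb49

/-! generated labelled Todd-Coxeter certificate, summary: B -/

set_option autoImplicit false
set_option maxRecDepth 1000000

namespace Cfsg.Agent.Helper5.ONB.B
open Cfsg.Agent.Helper5.LTC

theorem upto_0 : ∀ j, j < 0 → ∃ r, checkFact cert j r = true := fun j hj => absurd hj (by omega)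

theorem upto_1 : ∀ j, j < 2500 → ∃ r, checkFact cert j r = true :=
  upto_step cert upto_0 ju_0 2500 len_0 chk_0

theorem upto_2 : ∀ j, j < 5000 → ∃ r, checkFact cert j r = true :=
  upto_step cert upto_1 ju_1 2500 len_1 chk_1

theorem upto_3 : ∀ j, j < 7500 → ∃ r, checkFact cert j r = true :=
  upto_step cert upto_2 ju_2 2500 len_2 chk_2

theorem upto_4 : ∀ j, j < 10000 → ∃ r, checkFact cert j r = true :=
  upto_step cert upto_3 ju_3 2500 len_3 chk_3

theorem upto_5 : ∀ j, j < 12500 → ∃ r, checkFact cert j r = true :=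
  upto_step cert upto_4 ju_4 2500 len_4 chk_4

theorem upto_6 : ∀ j, j < 15000 → ∃ r, checkFact cert j r = true :=
  upto_step cert upto_5 ju_5 2500 len_5 chk_5

theorem upto_7 : ∀ j, j < 17500 → ∃ r, checkFact cert j r = true :=
  upto_step cert upto_6 ju_6 2500 len_6 chk_6

theorem upto_8 : ∀ j, j < 20000 → ∃ r, checkFact cert j r = true :=
  upto_step cert upto_7 ju_7 2500 len_7 chk_7

theorem upto_9 : ∀ j, j < 22500 → ∃ r, checkFact cert j r = true :=
  upto_step cert upto_8 ju_8 2500 len_8 chk_8

theorem upto_10 : ∀ j, j < 25000 → ∃ r, checkFact cert j r = true :=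
  upto_step cert upto_9 ju_9 2500 len_9 chk_9

theorem upto_11 : ∀ j, j < 27500 → ∃ r, checkFact cert j r = true :=
  upto_step cert upto_10 ju_10 2500 len_10 chk_10

theorem upto_12 : ∀ j, j < 30000 → ∃ r, checkFact cert j r = true :=
  upto_step cert upto_11 ju_11 2500 len_11 chk_11

theorem upto_13 : ∀ j, j < 32500 → ∃ r, checkFact cert j r = true :=
  upto_step cert upto_12 ju_12 2500 len_12 chk_12

theorem upto_14 : ∀ j, j < 35000 → ∃ r, checkFact cert j r = true :=
  upto_step cert upto_13 ju_13 2500 len_13 chk_13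

theorem upto_15 : ∀ j, j < 37500 → ∃ r, checkFact cert j r = true :=
  upto_step cert upto_14 ju_14 2500 len_14 chk_14

theorem upto_16 : ∀ j, j < 40000 → ∃ r, checkFact cert j r = true :=
  upto_step cert upto_15 ju_15 2500 len_15 chk_15

theorem upto_17 : ∀ j, j < 42500 → ∃ r, checkFact cert j r = true :=
  upto_step cert upto_16 ju_16 2500 len_16 chk_16

theorem upto_18 : ∀ j, j < 45000 → ∃ r, checkFact cert j r = true :=
  upto_step cert upto_17 ju_17 2500 len_17 chk_17

theorem upto_19 : ∀ j, j < 47500 → ∃ r, checkFact cert j r = true :=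
  upto_step cert upto_18 ju_18 2500 len_18 chk_18

theorem upto_20 : ∀ j, j < 50000 → ∃ r, checkFact cert j r = true :=
  upto_step cert upto_19 ju_19 2500 len_19 chk_19

theorem upto_21 : ∀ j, j < 52500 → ∃ r, checkFact cert j r = true :=
  upto_step cert upto_20 ju_20 2500 len_20 chk_20

theorem upto_22 : ∀ j, j < 55000 → ∃ r, checkFact cert j r = true :=
  upto_step cert upto_21 ju_21 2500 len_21 chk_21

theorem upto_23 : ∀ j, j < 57500 → ∃ r, checkFact cert j r = true :=
  upto_step cert upto_22 ju_22 2500 len_22 chk_22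

theorem upto_24 : ∀ j, j < 60000 → ∃ r, checkFact cert j r = true :=
  upto_step cert upto_23 ju_23 2500 len_23 chk_23

theorem upto_25 : ∀ j, j < 62500 → ∃ r, checkFact cert j r = true :=
  upto_step cert upto_24 ju_24 2500 len_24 chk_24

theorem upto_26 : ∀ j, j < 65000 → ∃ r, checkFact cert j r = true :=
  upto_step cert upto_25 ju_25 2500 len_25 chk_25

theorem upto_27 : ∀ j, j < 67500 → ∃ r, checkFact cert j r = true :=
  upto_step cert upto_26 ju_26 2500 len_26 chk_26

theorem upto_28 : ∀ j, j < 70000 → ∃ r, checkFact cert j r = true :=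
  upto_step cert upto_27 ju_27 2500 len_27 chk_27

theorem upto_29 : ∀ j, j < 72500 → ∃ r, checkFact cert j r = true :=
  upto_step cert upto_28 ju_28 2500 len_28 chk_28

theorem upto_30 : ∀ j, j < 75000 → ∃ r, checkFact cert j r = true :=
  upto_step cert upto_29 ju_29 2500 len_29 chk_29

theorem upto_31 : ∀ j, j < 77500 → ∃ r, checkFact cert j r = true :=
  upto_step cert upto_30 ju_30 2500 len_30 chk_30

theorem upto_32 : ∀ j, j < 80000 → ∃ r, checkFact cert j r = true :=
  upto_step cert upto_31 ju_31 2500 len_31 chk_31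

theorem upto_33 : ∀ j, j < 82500 → ∃ r, checkFact cert j r = true :=
  upto_step cert upto_32 ju_32 2500 len_32 chk_32

theorem upto_34 : ∀ j, j < 85000 → ∃ r, checkFact cert j r = true :=
  upto_step cert upto_33 ju_33 2500 len_33 chk_33

theorem upto_35 : ∀ j, j < 87500 → ∃ r, checkFact cert j r = true :=
  upto_step cert upto_34 ju_34 2500 len_34 chk_34

theorem upto_36 : ∀ j, j < 90000 → ∃ r, checkFact cert j r = true :=
  upto_step cert upto_35 ju_35 2500 len_35 chk_35

theorem upto_37 : ∀ j, j < 92500 → ∃ r, checkFact cert j r = true :=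
  upto_step cert upto_36 ju_36 2500 len_36 chk_36

theorem upto_38 : ∀ j, j < 95000 → ∃ r, checkFact cert j r = true :=
  upto_step cert upto_37 ju_37 2500 len_37 chk_37

theorem upto_39 : ∀ j, j < 97500 → ∃ r, checkFact cert j r = true :=
  upto_step cert upto_38 ju_38 2500 len_38 chk_38

theorem upto_40 : ∀ j, j < 100000 → ∃ r, checkFact cert j r = true :=
  upto_step cert upto_39 ju_39 2500 len_39 chk_39

theorem upto_41 : ∀ j, j < 102500 → ∃ r, checkFact cert j r = true :=
  upto_step cert upto_40 ju_40 2500 len_40 chk_40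

theorem upto_42 : ∀ j, j < 105000 → ∃ r, checkFact cert j r = true :=
  upto_step cert upto_41 ju_41 2500 len_41 chk_41

theorem upto_43 : ∀ j, j < 107500 → ∃ r, checkFact cert j r = true :=
  upto_step cert upto_42 ju_42 2500 len_42 chk_42

theorem upto_44 : ∀ j, j < 110000 → ∃ r, checkFact cert j r = true :=
  upto_step cert upto_43 ju_43 2500 len_43 chk_43

theorem upto_45 : ∀ j, j < 112500 → ∃ r, checkFact cert j r = true :=
  upto_step cert upto_44 ju_44 2500 len_44 chk_44

theorem upto_46 : ∀ j, j < 115000 → ∃ r, checkFact cert j r = true :=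
  upto_step cert upto_45 ju_45 2500 len_45 chk_45

theorem upto_47 : ∀ j, j < 117500 → ∃ r, checkFact cert j r = true :=
  upto_step cert upto_46 ju_46 2500 len_46 chk_46

theorem upto_48 : ∀ j, j < 120000 → ∃ r, checkFact cert j r = true :=
  upto_step cert upto_47 ju_47 2500 len_47 chk_47

theorem upto_49 : ∀ j, j < 122500 → ∃ r, checkFact cert j r = true :=
  upto_step cert upto_48 ju_48 2500 len_48 chk_48

theorem upto_50 : ∀ j, j < 125000 → ∃ r, checkFact cert j r = true :=
  upto_step cert upto_49 ju_49 2500 len_49 chk_49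

theorem upto_51 : ∀ j, j < 127500 → ∃ r, checkFact cert j r = true :=
  upto_step cert upto_50 ju_50 2500 len_50 chk_50

theorem upto_52 : ∀ j, j < 130000 → ∃ r, checkFact cert j r = true :=
  upto_step cert upto_51 ju_51 2500 len_51 chk_51

theorem upto_53 : ∀ j, j < 132500 → ∃ r, checkFact cert j r = true :=
  upto_step cert upto_52 ju_52 2500 len_52 chk_52

theorem upto_54 : ∀ j, j < 135000 → ∃ r, checkFact cert j r = true :=
  upto_step cert upto_53 ju_53 2500 len_53 chk_53

theorem upto_55 : ∀ j, j < 137500 → ∃ r, checkFact cert j r = true :=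
  upto_step cert upto_54 ju_54 2500 len_54 chk_54

theorem upto_56 : ∀ j, j < 140000 → ∃ r, checkFact cert j r = true :=
  upto_step cert upto_55 ju_55 2500 len_55 chk_55

theorem upto_57 : ∀ j, j < 142500 → ∃ r, checkFact cert j r = true :=
  upto_step cert upto_56 ju_56 2500 len_56 chk_56

theorem upto_58 : ∀ j, j < 145000 → ∃ r, checkFact cert j r = true :=
  upto_step cert upto_57 ju_57 2500 len_57 chk_57

theorem upto_59 : ∀ j, j < 147500 → ∃ r, checkFact cert j r = true :=
  upto_step cert upto_58 ju_58 2500 len_58 chk_58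

theorem upto_60 : ∀ j, j < 150000 → ∃ r, checkFact cert j r = true :=
  upto_step cert upto_59 ju_59 2500 len_59 chk_59

theorem upto_61 : ∀ j, j < 152500 → ∃ r, checkFact cert j r = true :=
  upto_step cert upto_60 ju_60 2500 len_60 chk_60

theorem upto_62 : ∀ j, j < 155000 → ∃ r, checkFact cert j r = true :=
  upto_step cert upto_61 ju_61 2500 len_61 chk_61

theorem upto_63 : ∀ j, j < 157500 → ∃ r, checkFact cert j r = true :=
  upto_step cert upto_62 ju_62 2500 len_62 chk_62

theorem upto_64 : ∀ j, j < 160000 → ∃ r, checkFact cert j r = true :=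
  upto_step cert upto_63 ju_63 2500 len_63 chk_63

theorem upto_65 : ∀ j, j < 162500 → ∃ r, checkFact cert j r = true :=
  upto_step cert upto_64 ju_64 2500 len_64 chk_64

theorem upto_66 : ∀ j, j < 165000 → ∃ r, checkFact cert j r = true :=
  upto_step cert upto_65 ju_65 2500 len_65 chk_65

theorem upto_67 : ∀ j, j < 167500 → ∃ r, checkFact cert j r = true :=
  upto_step cert upto_66 ju_66 2500 len_66 chk_66

theorem upto_68 : ∀ j, j < 170000 → ∃ r, checkFact cert j r = true :=
  upto_step cert upto_67 ju_67 2500 len_67 chk_67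

theorem upto_69 : ∀ j, j < 172500 → ∃ r, checkFact cert j r = true :=
  upto_step cert upto_68 ju_68 2500 len_68 chk_68

theorem upto_70 : ∀ j, j < 175000 → ∃ r, checkFact cert j r = true :=
  upto_step cert upto_69 ju_69 2500 len_69 chk_69

theorem upto_71 : ∀ j, j < 177500 → ∃ r, checkFact cert j r = true :=
  upto_step cert upto_70 ju_70 2500 len_70 chk_70

theorem upto_72 : ∀ j, j < 180000 → ∃ r, checkFact cert j r = true :=
  upto_step cert upto_71 ju_71 2500 len_71 chk_71

theorem upto_73 : ∀ j, j < 182500 → ∃ r, checkFact cert j r = true :=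
  upto_step cert upto_72 ju_72 2500 len_72 chk_72

theorem upto_74 : ∀ j, j < 185000 → ∃ r, checkFact cert j r = true :=
  upto_step cert upto_73 ju_73 2500 len_73 chk_73

theorem upto_75 : ∀ j, j < 187500 → ∃ r, checkFact cert j r = true :=
  upto_step cert upto_74 ju_74 2500 len_74 chk_74

theorem upto_76 : ∀ j, j < 190000 → ∃ r, checkFact cert j r = true :=
  upto_step cert upto_75 ju_75 2500 len_75 chk_75

theorem upto_77 : ∀ j, j < 192500 → ∃ r, checkFact cert j r = true :=
  upto_step cert upto_76 ju_76 2500 len_76 chk_76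

theorem upto_78 : ∀ j, j < 195000 → ∃ r, checkFact cert j r = true :=
  upto_step cert upto_77 ju_77 2500 len_77 chk_77

theorem upto_79 : ∀ j, j < 197500 → ∃ r, checkFact cert j r = true :=
  upto_step cert upto_78 ju_78 2500 len_78 chk_78

theorem upto_80 : ∀ j, j < 200000 → ∃ r, checkFact cert j r = true :=
  upto_step cert upto_79 ju_79 2500 len_79 chk_79

theorem upto_81 : ∀ j, j < 202500 → ∃ r, checkFact cert j r = true :=
  upto_step cert upto_80 ju_80 2500 len_80 chk_80

theorem upto_82 : ∀ j, j < 205000 → ∃ r, checkFact cert j r = true :=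
  upto_step cert upto_81 ju_81 2500 len_81 chk_81

theorem upto_83 : ∀ j, j < 207500 → ∃ r, checkFact cert j r = true :=
  upto_step cert upto_82 ju_82 2500 len_82 chk_82

theorem upto_84 : ∀ j, j < 210000 → ∃ r, checkFact cert j r = true :=
  upto_step cert upto_83 ju_83 2500 len_83 chk_83

theorem upto_85 : ∀ j, j < 212500 → ∃ r, checkFact cert j r = true :=
  upto_step cert upto_84 ju_84 2500 len_84 chk_84

theorem upto_86 : ∀ j, j < 215000 → ∃ r, checkFact cert j r = true :=
  upto_step cert upto_85 ju_85 2500 len_85 chk_85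

theorem upto_87 : ∀ j, j < 217500 → ∃ r, checkFact cert j r = true :=
  upto_step cert upto_86 ju_86 2500 len_86 chk_86

theorem upto_88 : ∀ j, j < 220000 → ∃ r, checkFact cert j r = true :=
  upto_step cert upto_87 ju_87 2500 len_87 chk_87

theorem upto_89 : ∀ j, j < 222500 → ∃ r, checkFact cert j r = true :=
  upto_step cert upto_88 ju_88 2500 len_88 chk_88

theorem upto_90 : ∀ j, j < 225000 → ∃ r, checkFact cert j r = true :=
  upto_step cert upto_89 ju_89 2500 len_89 chk_89

theorem upto_91 : ∀ j, j < 227500 → ∃ r, checkFact cert j r = true :=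
  upto_step cert upto_90 ju_90 2500 len_90 chk_90

theorem upto_92 : ∀ j, j < 230000 → ∃ r, checkFact cert j r = true :=
  upto_step cert upto_91 ju_91 2500 len_91 chk_91

theorem upto_93 : ∀ j, j < 232500 → ∃ r, checkFact cert j r = true :=
  upto_step cert upto_92 ju_92 2500 len_92 chk_92

theorem upto_94 : ∀ j, j < 235000 → ∃ r, checkFact cert j r = true :=
  upto_step cert upto_93 ju_93 2500 len_93 chk_93

theorem upto_95 : ∀ j, j < 237500 → ∃ r, checkFact cert j r = true :=
  upto_step cert upto_94 ju_94 2500 len_94 chk_94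

theorem upto_96 : ∀ j, j < 240000 → ∃ r, checkFact cert j r = true :=
  upto_step cert upto_95 ju_95 2500 len_95 chk_95

theorem upto_97 : ∀ j, j < 242500 → ∃ r, checkFact cert j r = true :=
  upto_step cert upto_96 ju_96 2500 len_96 chk_96

theorem upto_98 : ∀ j, j < 245000 → ∃ r, checkFact cert j r = true :=
  upto_step cert upto_97 ju_97 2500 len_97 chk_97

theorem upto_99 : ∀ j, j < 247500 → ∃ r, checkFact cert j r = true :=
  upto_step cert upto_98 ju_98 2500 len_98 chk_98

theorem upto_100 : ∀ j, j < 250000 → ∃ r, checkFact cert j r = true :=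
  upto_step cert upto_99 ju_99 2500 len_99 chk_99

theorem upto_101 : ∀ j, j < 252500 → ∃ r, checkFact cert j r = true :=
  upto_step cert upto_100 ju_100 2500 len_100 chk_100

theorem upto_102 : ∀ j, j < 255000 → ∃ r, checkFact cert j r = true :=
  upto_step cert upto_101 ju_101 2500 len_101 chk_101

theorem upto_103 : ∀ j, j < 257500 → ∃ r, checkFact cert j r = true :=
  upto_step cert upto_102 ju_102 2500 len_102 chk_102

theorem upto_104 : ∀ j, j < 260000 → ∃ r, checkFact cert j r = true :=
  upto_step cert upto_103 ju_103 2500 len_103 chk_103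

theorem upto_105 : ∀ j, j < 262500 → ∃ r, checkFact cert j r = true :=
  upto_step cert upto_104 ju_104 2500 len_104 chk_104

theorem upto_106 : ∀ j, j < 265000 → ∃ r, checkFact cert j r = true :=
  upto_step cert upto_105 ju_105 2500 len_105 chk_105

theorem upto_107 : ∀ j, j < 267500 → ∃ r, checkFact cert j r = true :=
  upto_step cert upto_106 ju_106 2500 len_106 chk_106

theorem upto_108 : ∀ j, j < 270000 → ∃ r, checkFact cert j r = true :=
  upto_step cert upto_107 ju_107 2500 len_107 chk_107

theorem upto_109 : ∀ j, j < 272500 → ∃ r, checkFact cert j r = true :=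
  upto_step cert upto_108 ju_108 2500 len_108 chk_108

theorem upto_110 : ∀ j, j < 275000 → ∃ r, checkFact cert j r = true :=
  upto_step cert upto_109 ju_109 2500 len_109 chk_109

theorem upto_111 : ∀ j, j < 277500 → ∃ r, checkFact cert j r = true :=
  upto_step cert upto_110 ju_110 2500 len_110 chk_110

theorem upto_112 : ∀ j, j < 280000 → ∃ r, checkFact cert j r = true :=
  upto_step cert upto_111 ju_111 2500 len_111 chk_111

theorem upto_113 : ∀ j, j < 282500 → ∃ r, checkFact cert j r = true :=
  upto_step cert upto_112 ju_112 2500 len_112 chk_112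

theorem upto_114 : ∀ j, j < 285000 → ∃ r, checkFact cert j r = true :=
  upto_step cert upto_113 ju_113 2500 len_113 chk_113

theorem upto_115 : ∀ j, j < 287500 → ∃ r, checkFact cert j r = true :=
  upto_step cert upto_114 ju_114 2500 len_114 chk_114

theorem upto_116 : ∀ j, j < 290000 → ∃ r, checkFact cert j r = true :=
  upto_step cert upto_115 ju_115 2500 len_115 chk_115

theorem upto_117 : ∀ j, j < 292500 → ∃ r, checkFact cert j r = true :=
  upto_step cert upto_116 ju_116 2500 len_116 chk_116

theorem upto_118 : ∀ j, j < 295000 → ∃ r, checkFact cert j r = true :=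
  upto_step cert upto_117 ju_117 2500 len_117 chk_117

theorem upto_119 : ∀ j, j < 297500 → ∃ r, checkFact cert j r = true :=
  upto_step cert upto_118 ju_118 2500 len_118 chk_118

theorem upto_120 : ∀ j, j < 300000 → ∃ r, checkFact cert j r = true :=
  upto_step cert upto_119 ju_119 2500 len_119 chk_119

theorem upto_121 : ∀ j, j < 302500 → ∃ r, checkFact cert j r = true :=
  upto_step cert upto_120 ju_120 2500 len_120 chk_120

theorem upto_122 : ∀ j, j < 305000 → ∃ r, checkFact cert j r = true :=
  upto_step cert upto_121 ju_121 2500 len_121 chk_121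

theorem upto_123 : ∀ j, j < 307500 → ∃ r, checkFact cert j r = true :=
  upto_step cert upto_122 ju_122 2500 len_122 chk_122

theorem upto_124 : ∀ j, j < 310000 → ∃ r, checkFact cert j r = true :=
  upto_step cert upto_123 ju_123 2500 len_123 chk_123

theorem upto_125 : ∀ j, j < 312500 → ∃ r, checkFact cert j r = true :=
  upto_step cert upto_124 ju_124 2500 len_124 chk_124

theorem upto_126 : ∀ j, j < 315000 → ∃ r, checkFact cert j r = true :=
  upto_step cert upto_125 ju_125 2500 len_125 chk_125

theorem upto_127 : ∀ j, j < 317500 → ∃ r, checkFact cert j r = true :=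
  upto_step cert upto_126 ju_126 2500 len_126 chk_126

theorem upto_128 : ∀ j, j < 320000 → ∃ r, checkFact cert j r = true :=
  upto_step cert upto_127 ju_127 2500 len_127 chk_127

theorem upto_129 : ∀ j, j < 322500 → ∃ r, checkFact cert j r = true :=
  upto_step cert upto_128 ju_128 2500 len_128 chk_128

theorem upto_130 : ∀ j, j < 325000 → ∃ r, checkFact cert j r = true :=
  upto_step cert upto_129 ju_129 2500 len_129 chk_129

theorem upto_131 : ∀ j, j < 327500 → ∃ r, checkFact cert j r = true :=
  upto_step cert upto_130 ju_130 2500 len_130 chk_130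

theorem upto_132 : ∀ j, j < 330000 → ∃ r, checkFact cert j r = true :=
  upto_step cert upto_131 ju_131 2500 len_131 chk_131

theorem upto_133 : ∀ j, j < 332500 → ∃ r, checkFact cert j r = true :=
  upto_step cert upto_132 ju_132 2500 len_132 chk_132

theorem upto_134 : ∀ j, j < 335000 → ∃ r, checkFact cert j r = true :=
  upto_step cert upto_133 ju_133 2500 len_133 chk_133

theorem upto_135 : ∀ j, j < 337500 → ∃ r, checkFact cert j r = true :=
  upto_step cert upto_134 ju_134 2500 len_134 chk_134

theorem upto_136 : ∀ j, j < 340000 → ∃ r, checkFact cert j r = true :=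
  upto_step cert upto_135 ju_135 2500 len_135 chk_135

theorem upto_137 : ∀ j, j < 342500 → ∃ r, checkFact cert j r = true :=
  upto_step cert upto_136 ju_136 2500 len_136 chk_136

theorem upto_138 : ∀ j, j < 345000 → ∃ r, checkFact cert j r = true :=
  upto_step cert upto_137 ju_137 2500 len_137 chk_137

theorem upto_139 : ∀ j, j < 347500 → ∃ r, checkFact cert j r = true :=
  upto_step cert upto_138 ju_138 2500 len_138 chk_138

theorem upto_140 : ∀ j, j < 350000 → ∃ r, checkFact cert j r = true :=
  upto_step cert upto_139 ju_139 2500 len_139 chk_139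

theorem upto_141 : ∀ j, j < 352500 → ∃ r, checkFact cert j r = true :=
  upto_step cert upto_140 ju_140 2500 len_140 chk_140

theorem upto_142 : ∀ j, j < 355000 → ∃ r, checkFact cert j r = true :=
  upto_step cert upto_141 ju_141 2500 len_141 chk_141

theorem upto_143 : ∀ j, j < 357500 → ∃ r, checkFact cert j r = true :=
  upto_step cert upto_142 ju_142 2500 len_142 chk_142

theorem upto_144 : ∀ j, j < 360000 → ∃ r, checkFact cert j r = true :=
  upto_step cert upto_143 ju_143 2500 len_143 chk_143

theorem upto_145 : ∀ j, j < 362500 → ∃ r, checkFact cert j r = true :=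
  upto_step cert upto_144 ju_144 2500 len_144 chk_144

theorem upto_146 : ∀ j, j < 365000 → ∃ r, checkFact cert j r = true :=
  upto_step cert upto_145 ju_145 2500 len_145 chk_145

theorem upto_147 : ∀ j, j < 367500 → ∃ r, checkFact cert j r = true :=
  upto_step cert upto_146 ju_146 2500 len_146 chk_146

theorem upto_148 : ∀ j, j < 370000 → ∃ r, checkFact cert j r = true :=
  upto_step cert upto_147 ju_147 2500 len_147 chk_147

theorem upto_149 : ∀ j, j < 372500 → ∃ r, checkFact cert j r = true :=
  upto_step cert upto_148 ju_148 2500 len_148 chk_148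

theorem upto_150 : ∀ j, j < 375000 → ∃ r, checkFact cert j r = true :=
  upto_step cert upto_149 ju_149 2500 len_149 chk_149

theorem upto_151 : ∀ j, j < 377500 → ∃ r, checkFact cert j r = true :=
  upto_step cert upto_150 ju_150 2500 len_150 chk_150

theorem upto_152 : ∀ j, j < 380000 → ∃ r, checkFact cert j r = true :=
  upto_step cert upto_151 ju_151 2500 len_151 chk_151

theorem upto_153 : ∀ j, j < 382500 → ∃ r, checkFact cert j r = true :=
  upto_step cert upto_152 ju_152 2500 len_152 chk_152

theorem upto_154 : ∀ j, j < 385000 → ∃ r, checkFact cert j r = true :=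
  upto_step cert upto_153 ju_153 2500 len_153 chk_153

theorem upto_155 : ∀ j, j < 387500 → ∃ r, checkFact cert j r = true :=
  upto_step cert upto_154 ju_154 2500 len_154 chk_154

theorem upto_156 : ∀ j, j < 390000 → ∃ r, checkFact cert j r = true :=
  upto_step cert upto_155 ju_155 2500 len_155 chk_155

theorem upto_157 : ∀ j, j < 392500 → ∃ r, checkFact cert j r = true :=
  upto_step cert upto_156 ju_156 2500 len_156 chk_156

theorem upto_158 : ∀ j, j < 395000 → ∃ r, checkFact cert j r = true :=
  upto_step cert upto_157 ju_157 2500 len_157 chk_157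

theorem upto_159 : ∀ j, j < 397500 → ∃ r, checkFact cert j r = true :=
  upto_step cert upto_158 ju_158 2500 len_158 chk_158

theorem upto_160 : ∀ j, j < 400000 → ∃ r, checkFact cert j r = true :=
  upto_step cert upto_159 ju_159 2500 len_159 chk_159

theorem upto_161 : ∀ j, j < 402500 → ∃ r, checkFact cert j r = true :=
  upto_step cert upto_160 ju_160 2500 len_160 chk_160

theorem upto_162 : ∀ j, j < 405000 → ∃ r, checkFact cert j r = true :=
  upto_step cert upto_161 ju_161 2500 len_161 chk_161

theorem upto_163 : ∀ j, j < 407500 → ∃ r, checkFact cert j r = true :=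
  upto_step cert upto_162 ju_162 2500 len_162 chk_162

theorem upto_164 : ∀ j, j < 410000 → ∃ r, checkFact cert j r = true :=
  upto_step cert upto_163 ju_163 2500 len_163 chk_163

theorem upto_165 : ∀ j, j < 412500 → ∃ r, checkFact cert j r = true :=
  upto_step cert upto_164 ju_164 2500 len_164 chk_164

theorem upto_166 : ∀ j, j < 415000 → ∃ r, checkFact cert j r = true :=
  upto_step cert upto_165 ju_165 2500 len_165 chk_165

theorem upto_167 : ∀ j, j < 417500 → ∃ r, checkFact cert j r = true :=
  upto_step cert upto_166 ju_166 2500 len_166 chk_166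

theorem upto_168 : ∀ j, j < 420000 → ∃ r, checkFact cert j r = true :=
  upto_step cert upto_167 ju_167 2500 len_167 chk_167

theorem upto_169 : ∀ j, j < 422500 → ∃ r, checkFact cert j r = true :=
  upto_step cert upto_168 ju_168 2500 len_168 chk_168

theorem upto_170 : ∀ j, j < 425000 → ∃ r, checkFact cert j r = true :=
  upto_step cert upto_169 ju_169 2500 len_169 chk_169

theorem upto_171 : ∀ j, j < 427500 → ∃ r, checkFact cert j r = true :=
  upto_step cert upto_170 ju_170 2500 len_170 chk_170

theorem upto_172 : ∀ j, j < 430000 → ∃ r, checkFact cert j r = true :=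
  upto_step cert upto_171 ju_171 2500 len_171 chk_171

theorem upto_173 : ∀ j, j < 432500 → ∃ r, checkFact cert j r = true :=
  upto_step cert upto_172 ju_172 2500 len_172 chk_172

theorem upto_174 : ∀ j, j < 435000 → ∃ r, checkFact cert j r = true :=
  upto_step cert upto_173 ju_173 2500 len_173 chk_173

theorem upto_175 : ∀ j, j < 437500 → ∃ r, checkFact cert j r = true :=
  upto_step cert upto_174 ju_174 2500 len_174 chk_174

theorem upto_176 : ∀ j, j < 440000 → ∃ r, checkFact cert j r = true :=
  upto_step cert upto_175 ju_175 2500 len_175 chk_175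

theorem upto_177 : ∀ j, j < 442500 → ∃ r, checkFact cert j r = true :=
  upto_step cert upto_176 ju_176 2500 len_176 chk_176

theorem upto_178 : ∀ j, j < 445000 → ∃ r, checkFact cert j r = true :=
  upto_step cert upto_177 ju_177 2500 len_177 chk_177

theorem upto_179 : ∀ j, j < 447500 → ∃ r, checkFact cert j r = true :=
  upto_step cert upto_178 ju_178 2500 len_178 chk_178

theorem upto_180 : ∀ j, j < 450000 → ∃ r, checkFact cert j r = true :=
  upto_step cert upto_179 ju_179 2500 len_179 chk_179

theorem upto_181 : ∀ j, j < 452500 → ∃ r, checkFact cert j r = true :=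
  upto_step cert upto_180 ju_180 2500 len_180 chk_180

theorem upto_182 : ∀ j, j < 455000 → ∃ r, checkFact cert j r = true :=
  upto_step cert upto_181 ju_181 2500 len_181 chk_181

theorem upto_183 : ∀ j, j < 457500 → ∃ r, checkFact cert j r = true :=
  upto_step cert upto_182 ju_182 2500 len_182 chk_182

theorem upto_184 : ∀ j, j < 460000 → ∃ r, checkFact cert j r = true :=
  upto_step cert upto_183 ju_183 2500 len_183 chk_183

theorem upto_185 : ∀ j, j < 462500 → ∃ r, checkFact cert j r = true :=
  upto_step cert upto_184 ju_184 2500 len_184 chk_184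

theorem upto_186 : ∀ j, j < 465000 → ∃ r, checkFact cert j r = true :=
  upto_step cert upto_185 ju_185 2500 len_185 chk_185

theorem upto_187 : ∀ j, j < 467500 → ∃ r, checkFact cert j r = true :=
  upto_step cert upto_186 ju_186 2500 len_186 chk_186

theorem upto_188 : ∀ j, j < 470000 → ∃ r, checkFact cert j r = true :=
  upto_step cert upto_187 ju_187 2500 len_187 chk_187

theorem upto_189 : ∀ j, j < 472500 → ∃ r, checkFact cert j r = true :=
  upto_step cert upto_188 ju_188 2500 len_188 chk_188

theorem upto_190 : ∀ j, j < 475000 → ∃ r, checkFact cert j r = true :=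
  upto_step cert upto_189 ju_189 2500 len_189 chk_189

theorem upto_191 : ∀ j, j < 477500 → ∃ r, checkFact cert j r = true :=
  upto_step cert upto_190 ju_190 2500 len_190 chk_190

theorem upto_192 : ∀ j, j < 480000 → ∃ r, checkFact cert j r = true :=
  upto_step cert upto_191 ju_191 2500 len_191 chk_191

theorem upto_193 : ∀ j, j < 482500 → ∃ r, checkFact cert j r = true :=
  upto_step cert upto_192 ju_192 2500 len_192 chk_192

theorem upto_194 : ∀ j, j < 485000 → ∃ r, checkFact cert j r = true :=
  upto_step cert upto_193 ju_193 2500 len_193 chk_193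

theorem upto_195 : ∀ j, j < 487500 → ∃ r, checkFact cert j r = true :=
  upto_step cert upto_194 ju_194 2500 len_194 chk_194

theorem upto_196 : ∀ j, j < 490000 → ∃ r, checkFact cert j r = true :=
  upto_step cert upto_195 ju_195 2500 len_195 chk_195

theorem upto_197 : ∀ j, j < 492500 → ∃ r, checkFact cert j r = true :=
  upto_step cert upto_196 ju_196 2500 len_196 chk_196

theorem upto_198 : ∀ j, j < 495000 → ∃ r, checkFact cert j r = true :=
  upto_step cert upto_197 ju_197 2500 len_197 chk_197

theorem upto_199 : ∀ j, j < 497500 → ∃ r, checkFact cert j r = true :=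
  upto_step cert upto_198 ju_198 2500 len_198 chk_198

theorem upto_200 : ∀ j, j < 500000 → ∃ r, checkFact cert j r = true :=
  upto_step cert upto_199 ju_199 2500 len_199 chk_199

theorem upto_201 : ∀ j, j < 502500 → ∃ r, checkFact cert j r = true :=
  upto_step cert upto_200 ju_200 2500 len_200 chk_200

theorem upto_202 : ∀ j, j < 505000 → ∃ r, checkFact cert j r = true :=
  upto_step cert upto_201 ju_201 2500 len_201 chk_201

theorem upto_203 : ∀ j, j < 507500 → ∃ r, checkFact cert j r = true :=
  upto_step cert upto_202 ju_202 2500 len_202 chk_202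

theorem upto_204 : ∀ j, j < 510000 → ∃ r, checkFact cert j r = true :=
  upto_step cert upto_203 ju_203 2500 len_203 chk_203

theorem upto_205 : ∀ j, j < 512500 → ∃ r, checkFact cert j r = true :=
  upto_step cert upto_204 ju_204 2500 len_204 chk_204

theorem upto_206 : ∀ j, j < 515000 → ∃ r, checkFact cert j r = true :=
  upto_step cert upto_205 ju_205 2500 len_205 chk_205

theorem upto_207 : ∀ j, j < 517500 → ∃ r, checkFact cert j r = true :=
  upto_step cert upto_206 ju_206 2500 len_206 chk_206

theorem upto_208 : ∀ j, j < 520000 → ∃ r, checkFact cert j r = true :=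
  upto_step cert upto_207 ju_207 2500 len_207 chk_207

theorem upto_209 : ∀ j, j < 522500 → ∃ r, checkFact cert j r = true :=
  upto_step cert upto_208 ju_208 2500 len_208 chk_208

theorem upto_210 : ∀ j, j < 525000 → ∃ r, checkFact cert j r = true :=
  upto_step cert upto_209 ju_209 2500 len_209 chk_209

theorem upto_211 : ∀ j, j < 527500 → ∃ r, checkFact cert j r = true :=
  upto_step cert upto_210 ju_210 2500 len_210 chk_210

theorem upto_212 : ∀ j, j < 530000 → ∃ r, checkFact cert j r = true :=
  upto_step cert upto_211 ju_211 2500 len_211 chk_211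

theorem upto_213 : ∀ j, j < 532500 → ∃ r, checkFact cert j r = true :=
  upto_step cert upto_212 ju_212 2500 len_212 chk_212

theorem upto_214 : ∀ j, j < 535000 → ∃ r, checkFact cert j r = true :=
  upto_step cert upto_213 ju_213 2500 len_213 chk_213

theorem upto_215 : ∀ j, j < 537500 → ∃ r, checkFact cert j r = true :=
  upto_step cert upto_214 ju_214 2500 len_214 chk_214

theorem upto_216 : ∀ j, j < 540000 → ∃ r, checkFact cert j r = true :=
  upto_step cert upto_215 ju_215 2500 len_215 chk_215

theorem upto_217 : ∀ j, j < 542500 → ∃ r, checkFact cert j r = true :=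
  upto_step cert upto_216 ju_216 2500 len_216 chk_216

theorem upto_218 : ∀ j, j < 545000 → ∃ r, checkFact cert j r = true :=
  upto_step cert upto_217 ju_217 2500 len_217 chk_217

theorem upto_219 : ∀ j, j < 547500 → ∃ r, checkFact cert j r = true :=
  upto_step cert upto_218 ju_218 2500 len_218 chk_218

theorem upto_220 : ∀ j, j < 550000 → ∃ r, checkFact cert j r = true :=
  upto_step cert upto_219 ju_219 2500 len_219 chk_219

theorem upto_221 : ∀ j, j < 552500 → ∃ r, checkFact cert j r = true :=
  upto_step cert upto_220 ju_220 2500 len_220 chk_220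

theorem upto_222 : ∀ j, j < 555000 → ∃ r, checkFact cert j r = true :=
  upto_step cert upto_221 ju_221 2500 len_221 chk_221

theorem upto_223 : ∀ j, j < 557500 → ∃ r, checkFact cert j r = true :=
  upto_step cert upto_222 ju_222 2500 len_222 chk_222

theorem upto_224 : ∀ j, j < 560000 → ∃ r, checkFact cert j r = true :=
  upto_step cert upto_223 ju_223 2500 len_223 chk_223

theorem upto_225 : ∀ j, j < 562500 → ∃ r, checkFact cert j r = true :=
  upto_step cert upto_224 ju_224 2500 len_224 chk_224

theorem upto_226 : ∀ j, j < 565000 → ∃ r, checkFact cert j r = true :=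
  upto_step cert upto_225 ju_225 2500 len_225 chk_225

theorem upto_227 : ∀ j, j < 567500 → ∃ r, checkFact cert j r = true :=
  upto_step cert upto_226 ju_226 2500 len_226 chk_226

theorem upto_228 : ∀ j, j < 570000 → ∃ r, checkFact cert j r = true :=
  upto_step cert upto_227 ju_227 2500 len_227 chk_227

theorem upto_229 : ∀ j, j < 572500 → ∃ r, checkFact cert j r = true :=
  upto_step cert upto_228 ju_228 2500 len_228 chk_228

theorem upto_230 : ∀ j, j < 575000 → ∃ r, checkFact cert j r = true :=
  upto_step cert upto_229 ju_229 2500 len_229 chk_229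

theorem upto_231 : ∀ j, j < 577500 → ∃ r, checkFact cert j r = true :=
  upto_step cert upto_230 ju_230 2500 len_230 chk_230

theorem upto_232 : ∀ j, j < 580000 → ∃ r, checkFact cert j r = true :=
  upto_step cert upto_231 ju_231 2500 len_231 chk_231

theorem upto_233 : ∀ j, j < 582500 → ∃ r, checkFact cert j r = true :=
  upto_step cert upto_232 ju_232 2500 len_232 chk_232

theorem upto_234 : ∀ j, j < 585000 → ∃ r, checkFact cert j r = true :=
  upto_step cert upto_233 ju_233 2500 len_233 chk_233

theorem upto_235 : ∀ j, j < 587500 → ∃ r, checkFact cert j r = true :=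
  upto_step cert upto_234 ju_234 2500 len_234 chk_234

theorem upto_236 : ∀ j, j < 590000 → ∃ r, checkFact cert j r = true :=
  upto_step cert upto_235 ju_235 2500 len_235 chk_235

theorem upto_237 : ∀ j, j < 592500 → ∃ r, checkFact cert j r = true :=
  upto_step cert upto_236 ju_236 2500 len_236 chk_236

theorem upto_238 : ∀ j, j < 595000 → ∃ r, checkFact cert j r = true :=
  upto_step cert upto_237 ju_237 2500 len_237 chk_237

theorem upto_239 : ∀ j, j < 597500 → ∃ r, checkFact cert j r = true :=
  upto_step cert upto_238 ju_238 2500 len_238 chk_238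

theorem upto_240 : ∀ j, j < 600000 → ∃ r, checkFact cert j r = true :=
  upto_step cert upto_239 ju_239 2500 len_239 chk_239

theorem upto_241 : ∀ j, j < 602500 → ∃ r, checkFact cert j r = true :=
  upto_step cert upto_240 ju_240 2500 len_240 chk_240

theorem upto_242 : ∀ j, j < 605000 → ∃ r, checkFact cert j r = true :=
  upto_step cert upto_241 ju_241 2500 len_241 chk_241

theorem upto_243 : ∀ j, j < 607500 → ∃ r, checkFact cert j r = true :=
  upto_step cert upto_242 ju_242 2500 len_242 chk_242

theorem upto_244 : ∀ j, j < 610000 → ∃ r, checkFact cert j r = true :=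
  upto_step cert upto_243 ju_243 2500 len_243 chk_243

theorem upto_245 : ∀ j, j < 612500 → ∃ r, checkFact cert j r = true :=
  upto_step cert upto_244 ju_244 2500 len_244 chk_244

theorem upto_246 : ∀ j, j < 615000 → ∃ r, checkFact cert j r = true :=
  upto_step cert upto_245 ju_245 2500 len_245 chk_245

theorem upto_247 : ∀ j, j < 617500 → ∃ r, checkFact cert j r = true :=
  upto_step cert upto_246 ju_246 2500 len_246 chk_246

theorem upto_248 : ∀ j, j < 620000 → ∃ r, checkFact cert j r = true :=
  upto_step cert upto_247 ju_247 2500 len_247 chk_247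

theorem upto_249 : ∀ j, j < 622500 → ∃ r, checkFact cert j r = true :=
  upto_step cert upto_248 ju_248 2500 len_248 chk_248

theorem upto_250 : ∀ j, j < 625000 → ∃ r, checkFact cert j r = true :=
  upto_step cert upto_249 ju_249 2500 len_249 chk_249

theorem upto_251 : ∀ j, j < 627500 → ∃ r, checkFact cert j r = true :=
  upto_step cert upto_250 ju_250 2500 len_250 chk_250

theorem upto_252 : ∀ j, j < 630000 → ∃ r, checkFact cert j r = true :=
  upto_step cert upto_251 ju_251 2500 len_251 chk_251

theorem upto_253 : ∀ j, j < 632500 → ∃ r, checkFact cert j r = true :=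
  upto_step cert upto_252 ju_252 2500 len_252 chk_252

theorem upto_254 : ∀ j, j < 635000 → ∃ r, checkFact cert j r = true :=
  upto_step cert upto_253 ju_253 2500 len_253 chk_253

theorem upto_255 : ∀ j, j < 637500 → ∃ r, checkFact cert j r = true :=
  upto_step cert upto_254 ju_254 2500 len_254 chk_254

theorem upto_256 : ∀ j, j < 640000 → ∃ r, checkFact cert j r = true :=
  upto_step cert upto_255 ju_255 2500 len_255 chk_255

theorem upto_257 : ∀ j, j < 642500 → ∃ r, checkFact cert j r = true :=
  upto_step cert upto_256 ju_256 2500 len_256 chk_256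

theorem upto_258 : ∀ j, j < 645000 → ∃ r, checkFact cert j r = true :=
  upto_step cert upto_257 ju_257 2500 len_257 chk_257

theorem upto_259 : ∀ j, j < 647500 → ∃ r, checkFact cert j r = true :=
  upto_step cert upto_258 ju_258 2500 len_258 chk_258

theorem upto_260 : ∀ j, j < 650000 → ∃ r, checkFact cert j r = true :=
  upto_step cert upto_259 ju_259 2500 len_259 chk_259

theorem upto_261 : ∀ j, j < 652500 → ∃ r, checkFact cert j r = true :=
  upto_step cert upto_260 ju_260 2500 len_260 chk_260

theorem upto_262 : ∀ j, j < 655000 → ∃ r, checkFact cert j r = true :=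
  upto_step cert upto_261 ju_261 2500 len_261 chk_261

theorem upto_263 : ∀ j, j < 657500 → ∃ r, checkFact cert j r = true :=
  upto_step cert upto_262 ju_262 2500 len_262 chk_262

theorem upto_264 : ∀ j, j < 660000 → ∃ r, checkFact cert j r = true :=
  upto_step cert upto_263 ju_263 2500 len_263 chk_263

theorem upto_265 : ∀ j, j < 662500 → ∃ r, checkFact cert j r = true :=
  upto_step cert upto_264 ju_264 2500 len_264 chk_264

theorem upto_266 : ∀ j, j < 665000 → ∃ r, checkFact cert j r = true :=
  upto_step cert upto_265 ju_265 2500 len_265 chk_265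

theorem upto_267 : ∀ j, j < 667500 → ∃ r, checkFact cert j r = true :=
  upto_step cert upto_266 ju_266 2500 len_266 chk_266

theorem upto_268 : ∀ j, j < 670000 → ∃ r, checkFact cert j r = true :=
  upto_step cert upto_267 ju_267 2500 len_267 chk_267

theorem upto_269 : ∀ j, j < 672500 → ∃ r, checkFact cert j r = true :=
  upto_step cert upto_268 ju_268 2500 len_268 chk_268

theorem upto_270 : ∀ j, j < 675000 → ∃ r, checkFact cert j r = true :=
  upto_step cert upto_269 ju_269 2500 len_269 chk_269

theorem upto_271 : ∀ j, j < 677500 → ∃ r, checkFact cert j r = true :=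
  upto_step cert upto_270 ju_270 2500 len_270 chk_270

theorem upto_272 : ∀ j, j < 680000 → ∃ r, checkFact cert j r = true :=
  upto_step cert upto_271 ju_271 2500 len_271 chk_271

theorem upto_273 : ∀ j, j < 682500 → ∃ r, checkFact cert j r = true :=
  upto_step cert upto_272 ju_272 2500 len_272 chk_272

theorem upto_274 : ∀ j, j < 685000 → ∃ r, checkFact cert j r = true :=
  upto_step cert upto_273 ju_273 2500 len_273 chk_273

theorem upto_275 : ∀ j, j < 687500 → ∃ r, checkFact cert j r = true :=
  upto_step cert upto_274 ju_274 2500 len_274 chk_274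

theorem upto_276 : ∀ j, j < 690000 → ∃ r, checkFact cert j r = true :=
  upto_step cert upto_275 ju_275 2500 len_275 chk_275

theorem upto_277 : ∀ j, j < 692500 → ∃ r, checkFact cert j r = true :=
  upto_step cert upto_276 ju_276 2500 len_276 chk_276

theorem upto_278 : ∀ j, j < 695000 → ∃ r, checkFact cert j r = true :=
  upto_step cert upto_277 ju_277 2500 len_277 chk_277

theorem upto_279 : ∀ j, j < 697500 → ∃ r, checkFact cert j r = true :=
  upto_step cert upto_278 ju_278 2500 len_278 chk_278

theorem upto_280 : ∀ j, j < 700000 → ∃ r, checkFact cert j r = true :=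
  upto_step cert upto_279 ju_279 2500 len_279 chk_279

theorem upto_281 : ∀ j, j < 702500 → ∃ r, checkFact cert j r = true :=
  upto_step cert upto_280 ju_280 2500 len_280 chk_280

theorem upto_282 : ∀ j, j < 705000 → ∃ r, checkFact cert j r = true :=
  upto_step cert upto_281 ju_281 2500 len_281 chk_281

theorem upto_283 : ∀ j, j < 707500 → ∃ r, checkFact cert j r = true :=
  upto_step cert upto_282 ju_282 2500 len_282 chk_282

theorem upto_284 : ∀ j, j < 710000 → ∃ r, checkFact cert j r = true :=
  upto_step cert upto_283 ju_283 2500 len_283 chk_283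

theorem upto_285 : ∀ j, j < 712500 → ∃ r, checkFact cert j r = true :=
  upto_step cert upto_284 ju_284 2500 len_284 chk_284

theorem upto_286 : ∀ j, j < 715000 → ∃ r, checkFact cert j r = true :=
  upto_step cert upto_285 ju_285 2500 len_285 chk_285

theorem upto_287 : ∀ j, j < 717500 → ∃ r, checkFact cert j r = true :=
  upto_step cert upto_286 ju_286 2500 len_286 chk_286

theorem upto_288 : ∀ j, j < 720000 → ∃ r, checkFact cert j r = true :=
  upto_step cert upto_287 ju_287 2500 len_287 chk_287

theorem upto_289 : ∀ j, j < 722500 → ∃ r, checkFact cert j r = true :=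
  upto_step cert upto_288 ju_288 2500 len_288 chk_288

theorem upto_290 : ∀ j, j < 725000 → ∃ r, checkFact cert j r = true :=
  upto_step cert upto_289 ju_289 2500 len_289 chk_289

theorem upto_291 : ∀ j, j < 727500 → ∃ r, checkFact cert j r = true :=
  upto_step cert upto_290 ju_290 2500 len_290 chk_290

theorem upto_292 : ∀ j, j < 730000 → ∃ r, checkFact cert j r = true :=
  upto_step cert upto_291 ju_291 2500 len_291 chk_291

theorem upto_293 : ∀ j, j < 732500 → ∃ r, checkFact cert j r = true :=
  upto_step cert upto_292 ju_292 2500 len_292 chk_292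

theorem upto_294 : ∀ j, j < 735000 → ∃ r, checkFact cert j r = true :=
  upto_step cert upto_293 ju_293 2500 len_293 chk_293

theorem upto_295 : ∀ j, j < 737500 → ∃ r, checkFact cert j r = true :=
  upto_step cert upto_294 ju_294 2500 len_294 chk_294

theorem upto_296 : ∀ j, j < 740000 → ∃ r, checkFact cert j r = true :=
  upto_step cert upto_295 ju_295 2500 len_295 chk_295

theorem upto_297 : ∀ j, j < 742500 → ∃ r, checkFact cert j r = true :=
  upto_step cert upto_296 ju_296 2500 len_296 chk_296

theorem upto_298 : ∀ j, j < 745000 → ∃ r, checkFact cert j r = true :=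
  upto_step cert upto_297 ju_297 2500 len_297 chk_297

theorem upto_299 : ∀ j, j < 747500 → ∃ r, checkFact cert j r = true :=
  upto_step cert upto_298 ju_298 2500 len_298 chk_298

theorem upto_300 : ∀ j, j < 750000 → ∃ r, checkFact cert j r = true :=
  upto_step cert upto_299 ju_299 2500 len_299 chk_299

theorem upto_301 : ∀ j, j < 752500 → ∃ r, checkFact cert j r = true :=
  upto_step cert upto_300 ju_300 2500 len_300 chk_300

theorem upto_302 : ∀ j, j < 755000 → ∃ r, checkFact cert j r = true :=
  upto_step cert upto_301 ju_301 2500 len_301 chk_301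

theorem upto_303 : ∀ j, j < 757500 → ∃ r, checkFact cert j r = true :=
  upto_step cert upto_302 ju_302 2500 len_302 chk_302

theorem upto_304 : ∀ j, j < 760000 → ∃ r, checkFact cert j r = true :=
  upto_step cert upto_303 ju_303 2500 len_303 chk_303

theorem upto_305 : ∀ j, j < 762500 → ∃ r, checkFact cert j r = true :=
  upto_step cert upto_304 ju_304 2500 len_304 chk_304

theorem upto_306 : ∀ j, j < 765000 → ∃ r, checkFact cert j r = true :=
  upto_step cert upto_305 ju_305 2500 len_305 chk_305

theorem upto_307 : ∀ j, j < 767500 → ∃ r, checkFact cert j r = true :=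
  upto_step cert upto_306 ju_306 2500 len_306 chk_306

theorem upto_308 : ∀ j, j < 770000 → ∃ r, checkFact cert j r = true :=
  upto_step cert upto_307 ju_307 2500 len_307 chk_307

theorem upto_309 : ∀ j, j < 772500 → ∃ r, checkFact cert j r = true :=
  upto_step cert upto_308 ju_308 2500 len_308 chk_308

theorem upto_310 : ∀ j, j < 775000 → ∃ r, checkFact cert j r = true :=
  upto_step cert upto_309 ju_309 2500 len_309 chk_309

theorem upto_311 : ∀ j, j < 777500 → ∃ r, checkFact cert j r = true :=
  upto_step cert upto_310 ju_310 2500 len_310 chk_310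

theorem upto_312 : ∀ j, j < 780000 → ∃ r, checkFact cert j r = true :=
  upto_step cert upto_311 ju_311 2500 len_311 chk_311

theorem upto_313 : ∀ j, j < 782500 → ∃ r, checkFact cert j r = true :=
  upto_step cert upto_312 ju_312 2500 len_312 chk_312

theorem upto_314 : ∀ j, j < 785000 → ∃ r, checkFact cert j r = true :=
  upto_step cert upto_313 ju_313 2500 len_313 chk_313

theorem upto_315 : ∀ j, j < 787500 → ∃ r, checkFact cert j r = true :=
  upto_step cert upto_314 ju_314 2500 len_314 chk_314

theorem upto_316 : ∀ j, j < 790000 → ∃ r, checkFact cert j r = true :=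
  upto_step cert upto_315 ju_315 2500 len_315 chk_315

theorem upto_317 : ∀ j, j < 792500 → ∃ r, checkFact cert j r = true :=
  upto_step cert upto_316 ju_316 2500 len_316 chk_316

theorem upto_318 : ∀ j, j < 795000 → ∃ r, checkFact cert j r = true :=
  upto_step cert upto_317 ju_317 2500 len_317 chk_317

theorem upto_319 : ∀ j, j < 797500 → ∃ r, checkFact cert j r = true :=
  upto_step cert upto_318 ju_318 2500 len_318 chk_318

theorem upto_320 : ∀ j, j < 800000 → ∃ r, checkFact cert j r = true :=
  upto_step cert upto_319 ju_319 2500 len_319 chk_319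

theorem upto_321 : ∀ j, j < 802500 → ∃ r, checkFact cert j r = true :=
  upto_step cert upto_320 ju_320 2500 len_320 chk_320

theorem upto_322 : ∀ j, j < 805000 → ∃ r, checkFact cert j r = true :=
  upto_step cert upto_321 ju_321 2500 len_321 chk_321

theorem upto_323 : ∀ j, j < 807500 → ∃ r, checkFact cert j r = true :=
  upto_step cert upto_322 ju_322 2500 len_322 chk_322

theorem upto_324 : ∀ j, j < 810000 → ∃ r, checkFact cert j r = true :=
  upto_step cert upto_323 ju_323 2500 len_323 chk_323

theorem upto_325 : ∀ j, j < 812500 → ∃ r, checkFact cert j r = true :=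
  upto_step cert upto_324 ju_324 2500 len_324 chk_324

theorem upto_326 : ∀ j, j < 815000 → ∃ r, checkFact cert j r = true :=
  upto_step cert upto_325 ju_325 2500 len_325 chk_325

theorem upto_327 : ∀ j, j < 817500 → ∃ r, checkFact cert j r = true :=
  upto_step cert upto_326 ju_326 2500 len_326 chk_326

theorem upto_328 : ∀ j, j < 820000 → ∃ r, checkFact cert j r = true :=
  upto_step cert upto_327 ju_327 2500 len_327 chk_327

theorem upto_329 : ∀ j, j < 822500 → ∃ r, checkFact cert j r = true :=
  upto_step cert upto_328 ju_328 2500 len_328 chk_328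

theorem upto_330 : ∀ j, j < 825000 → ∃ r, checkFact cert j r = true :=
  upto_step cert upto_329 ju_329 2500 len_329 chk_329

theorem upto_331 : ∀ j, j < 827500 → ∃ r, checkFact cert j r = true :=
  upto_step cert upto_330 ju_330 2500 len_330 chk_330

theorem upto_332 : ∀ j, j < 830000 → ∃ r, checkFact cert j r = true :=
  upto_step cert upto_331 ju_331 2500 len_331 chk_331

theorem upto_333 : ∀ j, j < 832500 → ∃ r, checkFact cert j r = true :=
  upto_step cert upto_332 ju_332 2500 len_332 chk_332

theorem upto_334 : ∀ j, j < 835000 → ∃ r, checkFact cert j r = true :=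
  upto_step cert upto_333 ju_333 2500 len_333 chk_333

theorem upto_335 : ∀ j, j < 837500 → ∃ r, checkFact cert j r = true :=
  upto_step cert upto_334 ju_334 2500 len_334 chk_334

theorem upto_336 : ∀ j, j < 840000 → ∃ r, checkFact cert j r = true :=
  upto_step cert upto_335 ju_335 2500 len_335 chk_335

theorem upto_337 : ∀ j, j < 842500 → ∃ r, checkFact cert j r = true :=
  upto_step cert upto_336 ju_336 2500 len_336 chk_336

theorem upto_338 : ∀ j, j < 845000 → ∃ r, checkFact cert j r = true :=
  upto_step cert upto_337 ju_337 2500 len_337 chk_337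

theorem upto_339 : ∀ j, j < 847500 → ∃ r, checkFact cert j r = true :=
  upto_step cert upto_338 ju_338 2500 len_338 chk_338

theorem upto_340 : ∀ j, j < 850000 → ∃ r, checkFact cert j r = true :=
  upto_step cert upto_339 ju_339 2500 len_339 chk_339

theorem upto_341 : ∀ j, j < 852500 → ∃ r, checkFact cert j r = true :=
  upto_step cert upto_340 ju_340 2500 len_340 chk_340

theorem upto_342 : ∀ j, j < 855000 → ∃ r, checkFact cert j r = true :=
  upto_step cert upto_341 ju_341 2500 len_341 chk_341

theorem upto_343 : ∀ j, j < 857500 → ∃ r, checkFact cert j r = true :=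
  upto_step cert upto_342 ju_342 2500 len_342 chk_342

theorem upto_344 : ∀ j, j < 860000 → ∃ r, checkFact cert j r = true :=
  upto_step cert upto_343 ju_343 2500 len_343 chk_343

theorem upto_345 : ∀ j, j < 862500 → ∃ r, checkFact cert j r = true :=
  upto_step cert upto_344 ju_344 2500 len_344 chk_344

theorem upto_346 : ∀ j, j < 865000 → ∃ r, checkFact cert j r = true :=
  upto_step cert upto_345 ju_345 2500 len_345 chk_345

theorem upto_347 : ∀ j, j < 867500 → ∃ r, checkFact cert j r = true :=
  upto_step cert upto_346 ju_346 2500 len_346 chk_346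

theorem upto_348 : ∀ j, j < 870000 → ∃ r, checkFact cert j r = true :=
  upto_step cert upto_347 ju_347 2500 len_347 chk_347

theorem upto_349 : ∀ j, j < 872500 → ∃ r, checkFact cert j r = true :=
  upto_step cert upto_348 ju_348 2500 len_348 chk_348

theorem upto_350 : ∀ j, j < 875000 → ∃ r, checkFact cert j r = true :=
  upto_step cert upto_349 ju_349 2500 len_349 chk_349

theorem upto_351 : ∀ j, j < 877500 → ∃ r, checkFact cert j r = true :=
  upto_step cert upto_350 ju_350 2500 len_350 chk_350

theorem upto_352 : ∀ j, j < 880000 → ∃ r, checkFact cert j r = true :=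
  upto_step cert upto_351 ju_351 2500 len_351 chk_351

theorem upto_353 : ∀ j, j < 882500 → ∃ r, checkFact cert j r = true :=
  upto_step cert upto_352 ju_352 2500 len_352 chk_352

theorem upto_354 : ∀ j, j < 885000 → ∃ r, checkFact cert j r = true :=
  upto_step cert upto_353 ju_353 2500 len_353 chk_353

theorem upto_355 : ∀ j, j < 887500 → ∃ r, checkFact cert j r = true :=
  upto_step cert upto_354 ju_354 2500 len_354 chk_354

theorem upto_356 : ∀ j, j < 890000 → ∃ r, checkFact cert j r = true :=
  upto_step cert upto_355 ju_355 2500 len_355 chk_355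

theorem upto_357 : ∀ j, j < 892500 → ∃ r, checkFact cert j r = true :=
  upto_step cert upto_356 ju_356 2500 len_356 chk_356

theorem upto_358 : ∀ j, j < 895000 → ∃ r, checkFact cert j r = true :=
  upto_step cert upto_357 ju_357 2500 len_357 chk_357

theorem upto_359 : ∀ j, j < 897500 → ∃ r, checkFact cert j r = true :=
  upto_step cert upto_358 ju_358 2500 len_358 chk_358

theorem upto_360 : ∀ j, j < 900000 → ∃ r, checkFact cert j r = true :=
  upto_step cert upto_359 ju_359 2500 len_359 chk_359

theorem upto_361 : ∀ j, j < 902500 → ∃ r, checkFact cert j r = true :=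
  upto_step cert upto_360 ju_360 2500 len_360 chk_360

theorem upto_362 : ∀ j, j < 905000 → ∃ r, checkFact cert j r = true :=
  upto_step cert upto_361 ju_361 2500 len_361 chk_361

theorem upto_363 : ∀ j, j < 907500 → ∃ r, checkFact cert j r = true :=
  upto_step cert upto_362 ju_362 2500 len_362 chk_362

theorem upto_364 : ∀ j, j < 910000 → ∃ r, checkFact cert j r = true :=
  upto_step cert upto_363 ju_363 2500 len_363 chk_363

theorem upto_365 : ∀ j, j < 912500 → ∃ r, checkFact cert j r = true :=
  upto_step cert upto_364 ju_364 2500 len_364 chk_364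

theorem upto_366 : ∀ j, j < 915000 → ∃ r, checkFact cert j r = true :=
  upto_step cert upto_365 ju_365 2500 len_365 chk_365

theorem upto_367 : ∀ j, j < 917500 → ∃ r, checkFact cert j r = true :=
  upto_step cert upto_366 ju_366 2500 len_366 chk_366

theorem upto_368 : ∀ j, j < 920000 → ∃ r, checkFact cert j r = true :=
  upto_step cert upto_367 ju_367 2500 len_367 chk_367

theorem upto_369 : ∀ j, j < 922500 → ∃ r, checkFact cert j r = true :=
  upto_step cert upto_368 ju_368 2500 len_368 chk_368

theorem upto_370 : ∀ j, j < 925000 → ∃ r, checkFact cert j r = true :=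
  upto_step cert upto_369 ju_369 2500 len_369 chk_369

theorem upto_371 : ∀ j, j < 927500 → ∃ r, checkFact cert j r = true :=
  upto_step cert upto_370 ju_370 2500 len_370 chk_370

theorem upto_372 : ∀ j, j < 930000 → ∃ r, checkFact cert j r = true :=
  upto_step cert upto_371 ju_371 2500 len_371 chk_371

theorem upto_373 : ∀ j, j < 932500 → ∃ r, checkFact cert j r = true :=
  upto_step cert upto_372 ju_372 2500 len_372 chk_372

theorem upto_374 : ∀ j, j < 933132 → ∃ r, checkFact cert j r = true :=
  upto_step cert upto_373 ju_373 632 len_373 chk_373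

theorem hchk : ∀ j, j < cert.nf → ∃ r, checkFact cert j r = true := upto_374

theorem rowsto_0 : ∀ n, n < 0 → ∀ x, x < cert.k → tabEntryOK cert tab n x = true :=
  fun n hn => absurd hn (by omega)

theorem rowsto_1 : ∀ n, n < 1000 → ∀ x, x < cert.k → tabEntryOK cert tab n x = true :=
  rows_step cert tab rowsto_0 1000 rows_0

theorem rowsto_2 : ∀ n, n < 2000 → ∀ x, x < cert.k → tabEntryOK cert tab n x = true :=
  rows_step cert tab rowsto_1 1000 rows_1

theorem rowsto_3 : ∀ n, n < 3000 → ∀ x, x < cert.k → tabEntryOK cert tab n x = true :=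
  rows_step cert tab rowsto_2 1000 rows_2

theorem rowsto_4 : ∀ n, n < 4000 → ∀ x, x < cert.k → tabEntryOK cert tab n x = true :=
  rows_step cert tab rowsto_3 1000 rows_3

theorem rowsto_5 : ∀ n, n < 5000 → ∀ x, x < cert.k → tabEntryOK cert tab n x = true :=
  rows_step cert tab rowsto_4 1000 rows_4

theorem rowsto_6 : ∀ n, n < 6000 → ∀ x, x < cert.k → tabEntryOK cert tab n x = true :=
  rows_step cert tab rowsto_5 1000 rows_5

theorem rowsto_7 : ∀ n, n < 7000 → ∀ x, x < cert.k → tabEntryOK cert tab n x = true :=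
  rows_step cert tab rowsto_6 1000 rows_6

theorem rowsto_8 : ∀ n, n < 8000 → ∀ x, x < cert.k → tabEntryOK cert tab n x = true :=
  rows_step cert tab rowsto_7 1000 rows_7

theorem rowsto_9 : ∀ n, n < 9000 → ∀ x, x < cert.k → tabEntryOK cert tab n x = true :=
  rows_step cert tab rowsto_8 1000 rows_8

theorem rowsto_10 : ∀ n, n < 10000 → ∀ x, x < cert.k → tabEntryOK cert tab n x = true :=
  rows_step cert tab rowsto_9 1000 rows_9

theorem rowsto_11 : ∀ n, n < 11000 → ∀ x, x < cert.k → tabEntryOK cert tab n x = true :=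
  rows_step cert tab rowsto_10 1000 rows_10

theorem rowsto_12 : ∀ n, n < 12000 → ∀ x, x < cert.k → tabEntryOK cert tab n x = true :=
  rows_step cert tab rowsto_11 1000 rows_11

theorem rowsto_13 : ∀ n, n < 13000 → ∀ x, x < cert.k → tabEntryOK cert tab n x = true :=
  rows_step cert tab rowsto_12 1000 rows_12

theorem rowsto_14 : ∀ n, n < 14000 → ∀ x, x < cert.k → tabEntryOK cert tab n x = true :=
  rows_step cert tab rowsto_13 1000 rows_13

theorem rowsto_15 : ∀ n, n < 15000 → ∀ x, x < cert.k → tabEntryOK cert tab n x = true :=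
  rows_step cert tab rowsto_14 1000 rows_14

theorem rowsto_16 : ∀ n, n < 16000 → ∀ x, x < cert.k → tabEntryOK cert tab n x = true :=
  rows_step cert tab rowsto_15 1000 rows_15

theorem rowsto_17 : ∀ n, n < 17000 → ∀ x, x < cert.k → tabEntryOK cert tab n x = true :=
  rows_step cert tab rowsto_16 1000 rows_16

theorem rowsto_18 : ∀ n, n < 18000 → ∀ x, x < cert.k → tabEntryOK cert tab n x = true :=
  rows_step cert tab rowsto_17 1000 rows_17

theorem rowsto_19 : ∀ n, n < 19000 → ∀ x, x < cert.k → tabEntryOK cert tab n x = true :=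
  rows_step cert tab rowsto_18 1000 rows_18

theorem rowsto_20 : ∀ n, n < 20000 → ∀ x, x < cert.k → tabEntryOK cert tab n x = true :=
  rows_step cert tab rowsto_19 1000 rows_19

theorem rowsto_21 : ∀ n, n < 21000 → ∀ x, x < cert.k → tabEntryOK cert tab n x = true :=
  rows_step cert tab rowsto_20 1000 rows_20

theorem rowsto_22 : ∀ n, n < 22000 → ∀ x, x < cert.k → tabEntryOK cert tab n x = true :=
  rows_step cert tab rowsto_21 1000 rows_21

theorem rowsto_23 : ∀ n, n < 23000 → ∀ x, x < cert.k → tabEntryOK cert tab n x = true :=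
  rows_step cert tab rowsto_22 1000 rows_22

theorem rowsto_24 : ∀ n, n < 24000 → ∀ x, x < cert.k → tabEntryOK cert tab n x = true :=
  rows_step cert tab rowsto_23 1000 rows_23

theorem rowsto_25 : ∀ n, n < 25000 → ∀ x, x < cert.k → tabEntryOK cert tab n x = true :=
  rows_step cert tab rowsto_24 1000 rows_24

theorem rowsto_26 : ∀ n, n < 26000 → ∀ x, x < cert.k → tabEntryOK cert tab n x = true :=
  rows_step cert tab rowsto_25 1000 rows_25

theorem rowsto_27 : ∀ n, n < 27000 → ∀ x, x < cert.k → tabEntryOK cert tab n x = true :=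
  rows_step cert tab rowsto_26 1000 rows_26

theorem rowsto_28 : ∀ n, n < 28000 → ∀ x, x < cert.k → tabEntryOK cert tab n x = true :=
  rows_step cert tab rowsto_27 1000 rows_27

theorem rowsto_29 : ∀ n, n < 29000 → ∀ x, x < cert.k → tabEntryOK cert tab n x = true :=
  rows_step cert tab rowsto_28 1000 rows_28

theorem rowsto_30 : ∀ n, n < 30000 → ∀ x, x < cert.k → tabEntryOK cert tab n x = true :=
  rows_step cert tab rowsto_29 1000 rows_29

theorem rowsto_31 : ∀ n, n < 31000 → ∀ x, x < cert.k → tabEntryOK cert tab n x = true :=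
  rows_step cert tab rowsto_30 1000 rows_30

theorem rowsto_32 : ∀ n, n < 32000 → ∀ x, x < cert.k → tabEntryOK cert tab n x = true :=
  rows_step cert tab rowsto_31 1000 rows_31

theorem rowsto_33 : ∀ n, n < 33000 → ∀ x, x < cert.k → tabEntryOK cert tab n x = true :=
  rows_step cert tab rowsto_32 1000 rows_32

theorem rowsto_34 : ∀ n, n < 34000 → ∀ x, x < cert.k → tabEntryOK cert tab n x = true :=
  rows_step cert tab rowsto_33 1000 rows_33

theorem rowsto_35 : ∀ n, n < 35000 → ∀ x, x < cert.k → tabEntryOK cert tab n x = true :=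
  rows_step cert tab rowsto_34 1000 rows_34

theorem rowsto_36 : ∀ n, n < 36000 → ∀ x, x < cert.k → tabEntryOK cert tab n x = true :=
  rows_step cert tab rowsto_35 1000 rows_35

theorem rowsto_37 : ∀ n, n < 37000 → ∀ x, x < cert.k → tabEntryOK cert tab n x = true :=
  rows_step cert tab rowsto_36 1000 rows_36

theorem rowsto_38 : ∀ n, n < 38000 → ∀ x, x < cert.k → tabEntryOK cert tab n x = true :=
  rows_step cert tab rowsto_37 1000 rows_37

theorem rowsto_39 : ∀ n, n < 39000 → ∀ x, x < cert.k → tabEntryOK cert tab n x = true :=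
  rows_step cert tab rowsto_38 1000 rows_38

theorem rowsto_40 : ∀ n, n < 40000 → ∀ x, x < cert.k → tabEntryOK cert tab n x = true :=
  rows_step cert tab rowsto_39 1000 rows_39

theorem rowsto_41 : ∀ n, n < 41000 → ∀ x, x < cert.k → tabEntryOK cert tab n x = true :=
  rows_step cert tab rowsto_40 1000 rows_40

theorem rowsto_42 : ∀ n, n < 42000 → ∀ x, x < cert.k → tabEntryOK cert tab n x = true :=
  rows_step cert tab rowsto_41 1000 rows_41

theorem rowsto_43 : ∀ n, n < 43000 → ∀ x, x < cert.k → tabEntryOK cert tab n x = true :=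
  rows_step cert tab rowsto_42 1000 rows_42

theorem rowsto_44 : ∀ n, n < 44000 → ∀ x, x < cert.k → tabEntryOK cert tab n x = true :=
  rows_step cert tab rowsto_43 1000 rows_43

theorem rowsto_45 : ∀ n, n < 45000 → ∀ x, x < cert.k → tabEntryOK cert tab n x = true :=
  rows_step cert tab rowsto_44 1000 rows_44

theorem rowsto_46 : ∀ n, n < 46000 → ∀ x, x < cert.k → tabEntryOK cert tab n x = true :=
  rows_step cert tab rowsto_45 1000 rows_45

theorem rowsto_47 : ∀ n, n < 47000 → ∀ x, x < cert.k → tabEntryOK cert tab n x = true :=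
  rows_step cert tab rowsto_46 1000 rows_46

theorem rowsto_48 : ∀ n, n < 48000 → ∀ x, x < cert.k → tabEntryOK cert tab n x = true :=
  rows_step cert tab rowsto_47 1000 rows_47

theorem rowsto_49 : ∀ n, n < 49000 → ∀ x, x < cert.k → tabEntryOK cert tab n x = true :=
  rows_step cert tab rowsto_48 1000 rows_48

theorem rowsto_50 : ∀ n, n < 50000 → ∀ x, x < cert.k → tabEntryOK cert tab n x = true :=
  rows_step cert tab rowsto_49 1000 rows_49

theorem rowsto_51 : ∀ n, n < 51000 → ∀ x, x < cert.k → tabEntryOK cert tab n x = true :=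
  rows_step cert tab rowsto_50 1000 rows_50

theorem rowsto_52 : ∀ n, n < 52000 → ∀ x, x < cert.k → tabEntryOK cert tab n x = true :=
  rows_step cert tab rowsto_51 1000 rows_51

theorem rowsto_53 : ∀ n, n < 53000 → ∀ x, x < cert.k → tabEntryOK cert tab n x = true :=
  rows_step cert tab rowsto_52 1000 rows_52

theorem rowsto_54 : ∀ n, n < 54000 → ∀ x, x < cert.k → tabEntryOK cert tab n x = true :=
  rows_step cert tab rowsto_53 1000 rows_53

theorem rowsto_55 : ∀ n, n < 55000 → ∀ x, x < cert.k → tabEntryOK cert tab n x = true :=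
  rows_step cert tab rowsto_54 1000 rows_54

theorem rowsto_56 : ∀ n, n < 56000 → ∀ x, x < cert.k → tabEntryOK cert tab n x = true :=
  rows_step cert tab rowsto_55 1000 rows_55

theorem rowsto_57 : ∀ n, n < 57000 → ∀ x, x < cert.k → tabEntryOK cert tab n x = true :=
  rows_step cert tab rowsto_56 1000 rows_56

theorem rowsto_58 : ∀ n, n < 58000 → ∀ x, x < cert.k → tabEntryOK cert tab n x = true :=
  rows_step cert tab rowsto_57 1000 rows_57

theorem rowsto_59 : ∀ n, n < 59000 → ∀ x, x < cert.k → tabEntryOK cert tab n x = true :=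
  rows_step cert tab rowsto_58 1000 rows_58

theorem rowsto_60 : ∀ n, n < 60000 → ∀ x, x < cert.k → tabEntryOK cert tab n x = true :=
  rows_step cert tab rowsto_59 1000 rows_59

theorem rowsto_61 : ∀ n, n < 61000 → ∀ x, x < cert.k → tabEntryOK cert tab n x = true :=
  rows_step cert tab rowsto_60 1000 rows_60

theorem rowsto_62 : ∀ n, n < 62000 → ∀ x, x < cert.k → tabEntryOK cert tab n x = true :=
  rows_step cert tab rowsto_61 1000 rows_61

theorem rowsto_63 : ∀ n, n < 63000 → ∀ x, x < cert.k → tabEntryOK cert tab n x = true :=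
  rows_step cert tab rowsto_62 1000 rows_62

theorem rowsto_64 : ∀ n, n < 64000 → ∀ x, x < cert.k → tabEntryOK cert tab n x = true :=
  rows_step cert tab rowsto_63 1000 rows_63

theorem rowsto_65 : ∀ n, n < 65000 → ∀ x, x < cert.k → tabEntryOK cert tab n x = true :=
  rows_step cert tab rowsto_64 1000 rows_64

theorem rowsto_66 : ∀ n, n < 66000 → ∀ x, x < cert.k → tabEntryOK cert tab n x = true :=
  rows_step cert tab rowsto_65 1000 rows_65

theorem rowsto_67 : ∀ n, n < 67000 → ∀ x, x < cert.k → tabEntryOK cert tab n x = true :=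
  rows_step cert tab rowsto_66 1000 rows_66

theorem rowsto_68 : ∀ n, n < 68000 → ∀ x, x < cert.k → tabEntryOK cert tab n x = true :=
  rows_step cert tab rowsto_67 1000 rows_67

theorem rowsto_69 : ∀ n, n < 69000 → ∀ x, x < cert.k → tabEntryOK cert tab n x = true :=
  rows_step cert tab rowsto_68 1000 rows_68

theorem rowsto_70 : ∀ n, n < 70000 → ∀ x, x < cert.k → tabEntryOK cert tab n x = true :=
  rows_step cert tab rowsto_69 1000 rows_69

theorem rowsto_71 : ∀ n, n < 71000 → ∀ x, x < cert.k → tabEntryOK cert tab n x = true :=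
  rows_step cert tab rowsto_70 1000 rows_70

theorem rowsto_72 : ∀ n, n < 72000 → ∀ x, x < cert.k → tabEntryOK cert tab n x = true :=
  rows_step cert tab rowsto_71 1000 rows_71

theorem rowsto_73 : ∀ n, n < 73000 → ∀ x, x < cert.k → tabEntryOK cert tab n x = true :=
  rows_step cert tab rowsto_72 1000 rows_72

theorem rowsto_74 : ∀ n, n < 74000 → ∀ x, x < cert.k → tabEntryOK cert tab n x = true :=
  rows_step cert tab rowsto_73 1000 rows_73

theorem rowsto_75 : ∀ n, n < 75000 → ∀ x, x < cert.k → tabEntryOK cert tab n x = true :=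
  rows_step cert tab rowsto_74 1000 rows_74

theorem rowsto_76 : ∀ n, n < 76000 → ∀ x, x < cert.k → tabEntryOK cert tab n x = true :=
  rows_step cert tab rowsto_75 1000 rows_75

theorem rowsto_77 : ∀ n, n < 77000 → ∀ x, x < cert.k → tabEntryOK cert tab n x = true :=
  rows_step cert tab rowsto_76 1000 rows_76

theorem rowsto_78 : ∀ n, n < 78000 → ∀ x, x < cert.k → tabEntryOK cert tab n x = true :=
  rows_step cert tab rowsto_77 1000 rows_77

theorem rowsto_79 : ∀ n, n < 79000 → ∀ x, x < cert.k → tabEntryOK cert tab n x = true :=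
  rows_step cert tab rowsto_78 1000 rows_78

theorem rowsto_80 : ∀ n, n < 80000 → ∀ x, x < cert.k → tabEntryOK cert tab n x = true :=
  rows_step cert tab rowsto_79 1000 rows_79

theorem rowsto_81 : ∀ n, n < 81000 → ∀ x, x < cert.k → tabEntryOK cert tab n x = true :=
  rows_step cert tab rowsto_80 1000 rows_80

theorem rowsto_82 : ∀ n, n < 82000 → ∀ x, x < cert.k → tabEntryOK cert tab n x = true :=
  rows_step cert tab rowsto_81 1000 rows_81

theorem rowsto_83 : ∀ n, n < 83000 → ∀ x, x < cert.k → tabEntryOK cert tab n x = true :=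
  rows_step cert tab rowsto_82 1000 rows_82

theorem rowsto_84 : ∀ n, n < 84000 → ∀ x, x < cert.k → tabEntryOK cert tab n x = true :=
  rows_step cert tab rowsto_83 1000 rows_83

theorem rowsto_85 : ∀ n, n < 85000 → ∀ x, x < cert.k → tabEntryOK cert tab n x = true :=
  rows_step cert tab rowsto_84 1000 rows_84

theorem rowsto_86 : ∀ n, n < 86000 → ∀ x, x < cert.k → tabEntryOK cert tab n x = true :=
  rows_step cert tab rowsto_85 1000 rows_85

theorem rowsto_87 : ∀ n, n < 87000 → ∀ x, x < cert.k → tabEntryOK cert tab n x = true :=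
  rows_step cert tab rowsto_86 1000 rows_86

theorem rowsto_88 : ∀ n, n < 88000 → ∀ x, x < cert.k → tabEntryOK cert tab n x = true :=
  rows_step cert tab rowsto_87 1000 rows_87

theorem rowsto_89 : ∀ n, n < 89000 → ∀ x, x < cert.k → tabEntryOK cert tab n x = true :=
  rows_step cert tab rowsto_88 1000 rows_88

theorem rowsto_90 : ∀ n, n < 90000 → ∀ x, x < cert.k → tabEntryOK cert tab n x = true :=
  rows_step cert tab rowsto_89 1000 rows_89

theorem rowsto_91 : ∀ n, n < 91000 → ∀ x, x < cert.k → tabEntryOK cert tab n x = true :=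
  rows_step cert tab rowsto_90 1000 rows_90

theorem rowsto_92 : ∀ n, n < 92000 → ∀ x, x < cert.k → tabEntryOK cert tab n x = true :=
  rows_step cert tab rowsto_91 1000 rows_91

theorem rowsto_93 : ∀ n, n < 93000 → ∀ x, x < cert.k → tabEntryOK cert tab n x = true :=
  rows_step cert tab rowsto_92 1000 rows_92

theorem rowsto_94 : ∀ n, n < 94000 → ∀ x, x < cert.k → tabEntryOK cert tab n x = true :=
  rows_step cert tab rowsto_93 1000 rows_93

theorem rowsto_95 : ∀ n, n < 95000 → ∀ x, x < cert.k → tabEntryOK cert tab n x = true :=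
  rows_step cert tab rowsto_94 1000 rows_94

theorem rowsto_96 : ∀ n, n < 96000 → ∀ x, x < cert.k → tabEntryOK cert tab n x = true :=
  rows_step cert tab rowsto_95 1000 rows_95

theorem rowsto_97 : ∀ n, n < 97000 → ∀ x, x < cert.k → tabEntryOK cert tab n x = true :=
  rows_step cert tab rowsto_96 1000 rows_96

theorem rowsto_98 : ∀ n, n < 98000 → ∀ x, x < cert.k → tabEntryOK cert tab n x = true :=
  rows_step cert tab rowsto_97 1000 rows_97

theorem rowsto_99 : ∀ n, n < 99000 → ∀ x, x < cert.k → tabEntryOK cert tab n x = true :=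
  rows_step cert tab rowsto_98 1000 rows_98

theorem rowsto_100 : ∀ n, n < 100000 → ∀ x, x < cert.k → tabEntryOK cert tab n x = true :=
  rows_step cert tab rowsto_99 1000 rows_99

theorem rowsto_101 : ∀ n, n < 101000 → ∀ x, x < cert.k → tabEntryOK cert tab n x = true :=
  rows_step cert tab rowsto_100 1000 rows_100

theorem rowsto_102 : ∀ n, n < 102000 → ∀ x, x < cert.k → tabEntryOK cert tab n x = true :=
  rows_step cert tab rowsto_101 1000 rows_101

theorem rowsto_103 : ∀ n, n < 103000 → ∀ x, x < cert.k → tabEntryOK cert tab n x = true :=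
  rows_step cert tab rowsto_102 1000 rows_102

theorem rowsto_104 : ∀ n, n < 104000 → ∀ x, x < cert.k → tabEntryOK cert tab n x = true :=
  rows_step cert tab rowsto_103 1000 rows_103

theorem rowsto_105 : ∀ n, n < 105000 → ∀ x, x < cert.k → tabEntryOK cert tab n x = true :=
  rows_step cert tab rowsto_104 1000 rows_104

theorem rowsto_106 : ∀ n, n < 106000 → ∀ x, x < cert.k → tabEntryOK cert tab n x = true :=
  rows_step cert tab rowsto_105 1000 rows_105

theorem rowsto_107 : ∀ n, n < 107000 → ∀ x, x < cert.k → tabEntryOK cert tab n x = true :=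
  rows_step cert tab rowsto_106 1000 rows_106

theorem rowsto_108 : ∀ n, n < 108000 → ∀ x, x < cert.k → tabEntryOK cert tab n x = true :=
  rows_step cert tab rowsto_107 1000 rows_107

theorem rowsto_109 : ∀ n, n < 109000 → ∀ x, x < cert.k → tabEntryOK cert tab n x = true :=
  rows_step cert tab rowsto_108 1000 rows_108

theorem rowsto_110 : ∀ n, n < 110000 → ∀ x, x < cert.k → tabEntryOK cert tab n x = true :=
  rows_step cert tab rowsto_109 1000 rows_109

theorem rowsto_111 : ∀ n, n < 111000 → ∀ x, x < cert.k → tabEntryOK cert tab n x = true :=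
  rows_step cert tab rowsto_110 1000 rows_110

theorem rowsto_112 : ∀ n, n < 112000 → ∀ x, x < cert.k → tabEntryOK cert tab n x = true :=
  rows_step cert tab rowsto_111 1000 rows_111

theorem rowsto_113 : ∀ n, n < 113000 → ∀ x, x < cert.k → tabEntryOK cert tab n x = true :=
  rows_step cert tab rowsto_112 1000 rows_112

theorem rowsto_114 : ∀ n, n < 114000 → ∀ x, x < cert.k → tabEntryOK cert tab n x = true :=
  rows_step cert tab rowsto_113 1000 rows_113

theorem rowsto_115 : ∀ n, n < 115000 → ∀ x, x < cert.k → tabEntryOK cert tab n x = true :=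
  rows_step cert tab rowsto_114 1000 rows_114

theorem rowsto_116 : ∀ n, n < 116000 → ∀ x, x < cert.k → tabEntryOK cert tab n x = true :=
  rows_step cert tab rowsto_115 1000 rows_115

theorem rowsto_117 : ∀ n, n < 117000 → ∀ x, x < cert.k → tabEntryOK cert tab n x = true :=
  rows_step cert tab rowsto_116 1000 rows_116

theorem rowsto_118 : ∀ n, n < 118000 → ∀ x, x < cert.k → tabEntryOK cert tab n x = true :=
  rows_step cert tab rowsto_117 1000 rows_117

theorem rowsto_119 : ∀ n, n < 119000 → ∀ x, x < cert.k → tabEntryOK cert tab n x = true :=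
  rows_step cert tab rowsto_118 1000 rows_118

theorem rowsto_120 : ∀ n, n < 120000 → ∀ x, x < cert.k → tabEntryOK cert tab n x = true :=
  rows_step cert tab rowsto_119 1000 rows_119

theorem rowsto_121 : ∀ n, n < 121000 → ∀ x, x < cert.k → tabEntryOK cert tab n x = true :=
  rows_step cert tab rowsto_120 1000 rows_120

theorem rowsto_122 : ∀ n, n < 122000 → ∀ x, x < cert.k → tabEntryOK cert tab n x = true :=
  rows_step cert tab rowsto_121 1000 rows_121

theorem rowsto_123 : ∀ n, n < 123000 → ∀ x, x < cert.k → tabEntryOK cert tab n x = true :=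
  rows_step cert tab rowsto_122 1000 rows_122

theorem rowsto_124 : ∀ n, n < 124000 → ∀ x, x < cert.k → tabEntryOK cert tab n x = true :=
  rows_step cert tab rowsto_123 1000 rows_123

theorem rowsto_125 : ∀ n, n < 125000 → ∀ x, x < cert.k → tabEntryOK cert tab n x = true :=
  rows_step cert tab rowsto_124 1000 rows_124

theorem rowsto_126 : ∀ n, n < 126000 → ∀ x, x < cert.k → tabEntryOK cert tab n x = true :=
  rows_step cert tab rowsto_125 1000 rows_125

theorem rowsto_127 : ∀ n, n < 127000 → ∀ x, x < cert.k → tabEntryOK cert tab n x = true :=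
  rows_step cert tab rowsto_126 1000 rows_126

theorem rowsto_128 : ∀ n, n < 128000 → ∀ x, x < cert.k → tabEntryOK cert tab n x = true :=
  rows_step cert tab rowsto_127 1000 rows_127

theorem rowsto_129 : ∀ n, n < 129000 → ∀ x, x < cert.k → tabEntryOK cert tab n x = true :=
  rows_step cert tab rowsto_128 1000 rows_128

theorem rowsto_130 : ∀ n, n < 130000 → ∀ x, x < cert.k → tabEntryOK cert tab n x = true :=
  rows_step cert tab rowsto_129 1000 rows_129

theorem rowsto_131 : ∀ n, n < 131000 → ∀ x, x < cert.k → tabEntryOK cert tab n x = true :=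
  rows_step cert tab rowsto_130 1000 rows_130

theorem rowsto_132 : ∀ n, n < 132000 → ∀ x, x < cert.k → tabEntryOK cert tab n x = true :=
  rows_step cert tab rowsto_131 1000 rows_131

theorem rowsto_133 : ∀ n, n < 133000 → ∀ x, x < cert.k → tabEntryOK cert tab n x = true :=
  rows_step cert tab rowsto_132 1000 rows_132

theorem rowsto_134 : ∀ n, n < 134000 → ∀ x, x < cert.k → tabEntryOK cert tab n x = true :=
  rows_step cert tab rowsto_133 1000 rows_133

theorem rowsto_135 : ∀ n, n < 135000 → ∀ x, x < cert.k → tabEntryOK cert tab n x = true :=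
  rows_step cert tab rowsto_134 1000 rows_134

theorem rowsto_136 : ∀ n, n < 136000 → ∀ x, x < cert.k → tabEntryOK cert tab n x = true :=
  rows_step cert tab rowsto_135 1000 rows_135

theorem rowsto_137 : ∀ n, n < 137000 → ∀ x, x < cert.k → tabEntryOK cert tab n x = true :=
  rows_step cert tab rowsto_136 1000 rows_136

theorem rowsto_138 : ∀ n, n < 138000 → ∀ x, x < cert.k → tabEntryOK cert tab n x = true :=
  rows_step cert tab rowsto_137 1000 rows_137

theorem rowsto_139 : ∀ n, n < 139000 → ∀ x, x < cert.k → tabEntryOK cert tab n x = true :=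
  rows_step cert tab rowsto_138 1000 rows_138

theorem rowsto_140 : ∀ n, n < 140000 → ∀ x, x < cert.k → tabEntryOK cert tab n x = true :=
  rows_step cert tab rowsto_139 1000 rows_139

theorem rowsto_141 : ∀ n, n < 141000 → ∀ x, x < cert.k → tabEntryOK cert tab n x = true :=
  rows_step cert tab rowsto_140 1000 rows_140

theorem rowsto_142 : ∀ n, n < 142000 → ∀ x, x < cert.k → tabEntryOK cert tab n x = true :=
  rows_step cert tab rowsto_141 1000 rows_141

theorem rowsto_143 : ∀ n, n < 143000 → ∀ x, x < cert.k → tabEntryOK cert tab n x = true :=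
  rows_step cert tab rowsto_142 1000 rows_142

theorem rowsto_144 : ∀ n, n < 144000 → ∀ x, x < cert.k → tabEntryOK cert tab n x = true :=
  rows_step cert tab rowsto_143 1000 rows_143

theorem rowsto_145 : ∀ n, n < 145000 → ∀ x, x < cert.k → tabEntryOK cert tab n x = true :=
  rows_step cert tab rowsto_144 1000 rows_144

theorem rowsto_146 : ∀ n, n < 146000 → ∀ x, x < cert.k → tabEntryOK cert tab n x = true :=
  rows_step cert tab rowsto_145 1000 rows_145

theorem rowsto_147 : ∀ n, n < 147000 → ∀ x, x < cert.k → tabEntryOK cert tab n x = true :=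
  rows_step cert tab rowsto_146 1000 rows_146

theorem rowsto_148 : ∀ n, n < 148000 → ∀ x, x < cert.k → tabEntryOK cert tab n x = true :=
  rows_step cert tab rowsto_147 1000 rows_147

theorem rowsto_149 : ∀ n, n < 149000 → ∀ x, x < cert.k → tabEntryOK cert tab n x = true :=
  rows_step cert tab rowsto_148 1000 rows_148

theorem rowsto_150 : ∀ n, n < 150000 → ∀ x, x < cert.k → tabEntryOK cert tab n x = true :=
  rows_step cert tab rowsto_149 1000 rows_149

theorem rowsto_151 : ∀ n, n < 151000 → ∀ x, x < cert.k → tabEntryOK cert tab n x = true :=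
  rows_step cert tab rowsto_150 1000 rows_150

theorem rowsto_152 : ∀ n, n < 152000 → ∀ x, x < cert.k → tabEntryOK cert tab n x = true :=
  rows_step cert tab rowsto_151 1000 rows_151

theorem rowsto_153 : ∀ n, n < 153000 → ∀ x, x < cert.k → tabEntryOK cert tab n x = true :=
  rows_step cert tab rowsto_152 1000 rows_152

theorem rowsto_154 : ∀ n, n < 154000 → ∀ x, x < cert.k → tabEntryOK cert tab n x = true :=
  rows_step cert tab rowsto_153 1000 rows_153

theorem rowsto_155 : ∀ n, n < 155000 → ∀ x, x < cert.k → tabEntryOK cert tab n x = true :=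
  rows_step cert tab rowsto_154 1000 rows_154

theorem rowsto_156 : ∀ n, n < 156000 → ∀ x, x < cert.k → tabEntryOK cert tab n x = true :=
  rows_step cert tab rowsto_155 1000 rows_155

theorem rowsto_157 : ∀ n, n < 157000 → ∀ x, x < cert.k → tabEntryOK cert tab n x = true :=
  rows_step cert tab rowsto_156 1000 rows_156

theorem rowsto_158 : ∀ n, n < 158000 → ∀ x, x < cert.k → tabEntryOK cert tab n x = true :=
  rows_step cert tab rowsto_157 1000 rows_157

theorem rowsto_159 : ∀ n, n < 159000 → ∀ x, x < cert.k → tabEntryOK cert tab n x = true :=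
  rows_step cert tab rowsto_158 1000 rows_158

theorem rowsto_160 : ∀ n, n < 160000 → ∀ x, x < cert.k → tabEntryOK cert tab n x = true :=
  rows_step cert tab rowsto_159 1000 rows_159

theorem rowsto_161 : ∀ n, n < 161000 → ∀ x, x < cert.k → tabEntryOK cert tab n x = true :=
  rows_step cert tab rowsto_160 1000 rows_160

theorem rowsto_162 : ∀ n, n < 162000 → ∀ x, x < cert.k → tabEntryOK cert tab n x = true :=
  rows_step cert tab rowsto_161 1000 rows_161

theorem rowsto_163 : ∀ n, n < 163000 → ∀ x, x < cert.k → tabEntryOK cert tab n x = true :=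
  rows_step cert tab rowsto_162 1000 rows_162

theorem rowsto_164 : ∀ n, n < 164000 → ∀ x, x < cert.k → tabEntryOK cert tab n x = true :=
  rows_step cert tab rowsto_163 1000 rows_163

theorem rowsto_165 : ∀ n, n < 165000 → ∀ x, x < cert.k → tabEntryOK cert tab n x = true :=
  rows_step cert tab rowsto_164 1000 rows_164

theorem rowsto_166 : ∀ n, n < 166000 → ∀ x, x < cert.k → tabEntryOK cert tab n x = true :=
  rows_step cert tab rowsto_165 1000 rows_165

theorem rowsto_167 : ∀ n, n < 167000 → ∀ x, x < cert.k → tabEntryOK cert tab n x = true :=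
  rows_step cert tab rowsto_166 1000 rows_166

theorem rowsto_168 : ∀ n, n < 168000 → ∀ x, x < cert.k → tabEntryOK cert tab n x = true :=
  rows_step cert tab rowsto_167 1000 rows_167

theorem rowsto_169 : ∀ n, n < 169000 → ∀ x, x < cert.k → tabEntryOK cert tab n x = true :=
  rows_step cert tab rowsto_168 1000 rows_168

theorem rowsto_170 : ∀ n, n < 170000 → ∀ x, x < cert.k → tabEntryOK cert tab n x = true :=
  rows_step cert tab rowsto_169 1000 rows_169

theorem rowsto_171 : ∀ n, n < 171000 → ∀ x, x < cert.k → tabEntryOK cert tab n x = true :=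
  rows_step cert tab rowsto_170 1000 rows_170

theorem rowsto_172 : ∀ n, n < 172000 → ∀ x, x < cert.k → tabEntryOK cert tab n x = true :=
  rows_step cert tab rowsto_171 1000 rows_171

theorem rowsto_173 : ∀ n, n < 173000 → ∀ x, x < cert.k → tabEntryOK cert tab n x = true :=
  rows_step cert tab rowsto_172 1000 rows_172

theorem rowsto_174 : ∀ n, n < 174000 → ∀ x, x < cert.k → tabEntryOK cert tab n x = true :=
  rows_step cert tab rowsto_173 1000 rows_173

theorem rowsto_175 : ∀ n, n < 175000 → ∀ x, x < cert.k → tabEntryOK cert tab n x = true :=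
  rows_step cert tab rowsto_174 1000 rows_174

theorem rowsto_176 : ∀ n, n < 176000 → ∀ x, x < cert.k → tabEntryOK cert tab n x = true :=
  rows_step cert tab rowsto_175 1000 rows_175

theorem rowsto_177 : ∀ n, n < 177000 → ∀ x, x < cert.k → tabEntryOK cert tab n x = true :=
  rows_step cert tab rowsto_176 1000 rows_176

theorem rowsto_178 : ∀ n, n < 178000 → ∀ x, x < cert.k → tabEntryOK cert tab n x = true :=
  rows_step cert tab rowsto_177 1000 rows_177

theorem rowsto_179 : ∀ n, n < 179000 → ∀ x, x < cert.k → tabEntryOK cert tab n x = true :=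
  rows_step cert tab rowsto_178 1000 rows_178

theorem rowsto_180 : ∀ n, n < 180000 → ∀ x, x < cert.k → tabEntryOK cert tab n x = true :=
  rows_step cert tab rowsto_179 1000 rows_179

theorem rowsto_181 : ∀ n, n < 181000 → ∀ x, x < cert.k → tabEntryOK cert tab n x = true :=
  rows_step cert tab rowsto_180 1000 rows_180

theorem rowsto_182 : ∀ n, n < 182000 → ∀ x, x < cert.k → tabEntryOK cert tab n x = true :=
  rows_step cert tab rowsto_181 1000 rows_181

theorem rowsto_183 : ∀ n, n < 183000 → ∀ x, x < cert.k → tabEntryOK cert tab n x = true :=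
  rows_step cert tab rowsto_182 1000 rows_182

theorem rowsto_184 : ∀ n, n < 184000 → ∀ x, x < cert.k → tabEntryOK cert tab n x = true :=
  rows_step cert tab rowsto_183 1000 rows_183

theorem rowsto_185 : ∀ n, n < 185000 → ∀ x, x < cert.k → tabEntryOK cert tab n x = true :=
  rows_step cert tab rowsto_184 1000 rows_184

theorem rowsto_186 : ∀ n, n < 186000 → ∀ x, x < cert.k → tabEntryOK cert tab n x = true :=
  rows_step cert tab rowsto_185 1000 rows_185

theorem rowsto_187 : ∀ n, n < 187000 → ∀ x, x < cert.k → tabEntryOK cert tab n x = true :=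
  rows_step cert tab rowsto_186 1000 rows_186

theorem rowsto_188 : ∀ n, n < 188000 → ∀ x, x < cert.k → tabEntryOK cert tab n x = true :=
  rows_step cert tab rowsto_187 1000 rows_187

theorem rowsto_189 : ∀ n, n < 189000 → ∀ x, x < cert.k → tabEntryOK cert tab n x = true :=
  rows_step cert tab rowsto_188 1000 rows_188

theorem rowsto_190 : ∀ n, n < 190000 → ∀ x, x < cert.k → tabEntryOK cert tab n x = true :=
  rows_step cert tab rowsto_189 1000 rows_189

theorem rowsto_191 : ∀ n, n < 191000 → ∀ x, x < cert.k → tabEntryOK cert tab n x = true :=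
  rows_step cert tab rowsto_190 1000 rows_190

theorem rowsto_192 : ∀ n, n < 192000 → ∀ x, x < cert.k → tabEntryOK cert tab n x = true :=
  rows_step cert tab rowsto_191 1000 rows_191

theorem rowsto_193 : ∀ n, n < 193000 → ∀ x, x < cert.k → tabEntryOK cert tab n x = true :=
  rows_step cert tab rowsto_192 1000 rows_192

theorem rowsto_194 : ∀ n, n < 194000 → ∀ x, x < cert.k → tabEntryOK cert tab n x = true :=
  rows_step cert tab rowsto_193 1000 rows_193

theorem rowsto_195 : ∀ n, n < 195000 → ∀ x, x < cert.k → tabEntryOK cert tab n x = true :=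
  rows_step cert tab rowsto_194 1000 rows_194

theorem rowsto_196 : ∀ n, n < 196000 → ∀ x, x < cert.k → tabEntryOK cert tab n x = true :=
  rows_step cert tab rowsto_195 1000 rows_195

theorem rowsto_197 : ∀ n, n < 197000 → ∀ x, x < cert.k → tabEntryOK cert tab n x = true :=
  rows_step cert tab rowsto_196 1000 rows_196

theorem rowsto_198 : ∀ n, n < 198000 → ∀ x, x < cert.k → tabEntryOK cert tab n x = true :=
  rows_step cert tab rowsto_197 1000 rows_197

theorem rowsto_199 : ∀ n, n < 199000 → ∀ x, x < cert.k → tabEntryOK cert tab n x = true :=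
  rows_step cert tab rowsto_198 1000 rows_198

theorem rowsto_200 : ∀ n, n < 200000 → ∀ x, x < cert.k → tabEntryOK cert tab n x = true :=
  rows_step cert tab rowsto_199 1000 rows_199

theorem rowsto_201 : ∀ n, n < 201000 → ∀ x, x < cert.k → tabEntryOK cert tab n x = true :=
  rows_step cert tab rowsto_200 1000 rows_200

theorem rowsto_202 : ∀ n, n < 202000 → ∀ x, x < cert.k → tabEntryOK cert tab n x = true :=
  rows_step cert tab rowsto_201 1000 rows_201

theorem rowsto_203 : ∀ n, n < 203000 → ∀ x, x < cert.k → tabEntryOK cert tab n x = true :=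
  rows_step cert tab rowsto_202 1000 rows_202

theorem rowsto_204 : ∀ n, n < 204000 → ∀ x, x < cert.k → tabEntryOK cert tab n x = true :=
  rows_step cert tab rowsto_203 1000 rows_203

theorem rowsto_205 : ∀ n, n < 205000 → ∀ x, x < cert.k → tabEntryOK cert tab n x = true :=
  rows_step cert tab rowsto_204 1000 rows_204

theorem rowsto_206 : ∀ n, n < 206000 → ∀ x, x < cert.k → tabEntryOK cert tab n x = true :=
  rows_step cert tab rowsto_205 1000 rows_205

theorem rowsto_207 : ∀ n, n < 207000 → ∀ x, x < cert.k → tabEntryOK cert tab n x = true :=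
  rows_step cert tab rowsto_206 1000 rows_206

theorem rowsto_208 : ∀ n, n < 208000 → ∀ x, x < cert.k → tabEntryOK cert tab n x = true :=
  rows_step cert tab rowsto_207 1000 rows_207

theorem rowsto_209 : ∀ n, n < 209000 → ∀ x, x < cert.k → tabEntryOK cert tab n x = true :=
  rows_step cert tab rowsto_208 1000 rows_208

theorem rowsto_210 : ∀ n, n < 210000 → ∀ x, x < cert.k → tabEntryOK cert tab n x = true :=
  rows_step cert tab rowsto_209 1000 rows_209

theorem rowsto_211 : ∀ n, n < 211000 → ∀ x, x < cert.k → tabEntryOK cert tab n x = true :=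
  rows_step cert tab rowsto_210 1000 rows_210

theorem rowsto_212 : ∀ n, n < 212000 → ∀ x, x < cert.k → tabEntryOK cert tab n x = true :=
  rows_step cert tab rowsto_211 1000 rows_211

theorem rowsto_213 : ∀ n, n < 213000 → ∀ x, x < cert.k → tabEntryOK cert tab n x = true :=
  rows_step cert tab rowsto_212 1000 rows_212

theorem rowsto_214 : ∀ n, n < 214000 → ∀ x, x < cert.k → tabEntryOK cert tab n x = true :=
  rows_step cert tab rowsto_213 1000 rows_213

theorem rowsto_215 : ∀ n, n < 215000 → ∀ x, x < cert.k → tabEntryOK cert tab n x = true :=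
  rows_step cert tab rowsto_214 1000 rows_214

theorem rowsto_216 : ∀ n, n < 216000 → ∀ x, x < cert.k → tabEntryOK cert tab n x = true :=
  rows_step cert tab rowsto_215 1000 rows_215

theorem rowsto_217 : ∀ n, n < 217000 → ∀ x, x < cert.k → tabEntryOK cert tab n x = true :=
  rows_step cert tab rowsto_216 1000 rows_216

theorem rowsto_218 : ∀ n, n < 218000 → ∀ x, x < cert.k → tabEntryOK cert tab n x = true :=
  rows_step cert tab rowsto_217 1000 rows_217

theorem rowsto_219 : ∀ n, n < 219000 → ∀ x, x < cert.k → tabEntryOK cert tab n x = true :=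
  rows_step cert tab rowsto_218 1000 rows_218

theorem rowsto_220 : ∀ n, n < 220000 → ∀ x, x < cert.k → tabEntryOK cert tab n x = true :=
  rows_step cert tab rowsto_219 1000 rows_219

theorem rowsto_221 : ∀ n, n < 221000 → ∀ x, x < cert.k → tabEntryOK cert tab n x = true :=
  rows_step cert tab rowsto_220 1000 rows_220

theorem rowsto_222 : ∀ n, n < 222000 → ∀ x, x < cert.k → tabEntryOK cert tab n x = true :=
  rows_step cert tab rowsto_221 1000 rows_221

theorem rowsto_223 : ∀ n, n < 223000 → ∀ x, x < cert.k → tabEntryOK cert tab n x = true :=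
  rows_step cert tab rowsto_222 1000 rows_222

theorem rowsto_224 : ∀ n, n < 224000 → ∀ x, x < cert.k → tabEntryOK cert tab n x = true :=
  rows_step cert tab rowsto_223 1000 rows_223

theorem rowsto_225 : ∀ n, n < 225000 → ∀ x, x < cert.k → tabEntryOK cert tab n x = true :=
  rows_step cert tab rowsto_224 1000 rows_224

theorem rowsto_226 : ∀ n, n < 226000 → ∀ x, x < cert.k → tabEntryOK cert tab n x = true :=
  rows_step cert tab rowsto_225 1000 rows_225

theorem rowsto_227 : ∀ n, n < 227000 → ∀ x, x < cert.k → tabEntryOK cert tab n x = true :=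
  rows_step cert tab rowsto_226 1000 rows_226

theorem rowsto_228 : ∀ n, n < 228000 → ∀ x, x < cert.k → tabEntryOK cert tab n x = true :=
  rows_step cert tab rowsto_227 1000 rows_227

theorem rowsto_229 : ∀ n, n < 229000 → ∀ x, x < cert.k → tabEntryOK cert tab n x = true :=
  rows_step cert tab rowsto_228 1000 rows_228

theorem rowsto_230 : ∀ n, n < 230000 → ∀ x, x < cert.k → tabEntryOK cert tab n x = true :=
  rows_step cert tab rowsto_229 1000 rows_229

theorem rowsto_231 : ∀ n, n < 231000 → ∀ x, x < cert.k → tabEntryOK cert tab n x = true :=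
  rows_step cert tab rowsto_230 1000 rows_230

theorem rowsto_232 : ∀ n, n < 232000 → ∀ x, x < cert.k → tabEntryOK cert tab n x = true :=
  rows_step cert tab rowsto_231 1000 rows_231

theorem rowsto_233 : ∀ n, n < 233000 → ∀ x, x < cert.k → tabEntryOK cert tab n x = true :=
  rows_step cert tab rowsto_232 1000 rows_232

theorem rowsto_234 : ∀ n, n < 234000 → ∀ x, x < cert.k → tabEntryOK cert tab n x = true :=
  rows_step cert tab rowsto_233 1000 rows_233

theorem rowsto_235 : ∀ n, n < 235000 → ∀ x, x < cert.k → tabEntryOK cert tab n x = true :=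
  rows_step cert tab rowsto_234 1000 rows_234

theorem rowsto_236 : ∀ n, n < 236000 → ∀ x, x < cert.k → tabEntryOK cert tab n x = true :=
  rows_step cert tab rowsto_235 1000 rows_235

theorem rowsto_237 : ∀ n, n < 237000 → ∀ x, x < cert.k → tabEntryOK cert tab n x = true :=
  rows_step cert tab rowsto_236 1000 rows_236

theorem rowsto_238 : ∀ n, n < 238000 → ∀ x, x < cert.k → tabEntryOK cert tab n x = true :=
  rows_step cert tab rowsto_237 1000 rows_237

theorem rowsto_239 : ∀ n, n < 239000 → ∀ x, x < cert.k → tabEntryOK cert tab n x = true :=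
  rows_step cert tab rowsto_238 1000 rows_238

theorem rowsto_240 : ∀ n, n < 240000 → ∀ x, x < cert.k → tabEntryOK cert tab n x = true :=
  rows_step cert tab rowsto_239 1000 rows_239

theorem rowsto_241 : ∀ n, n < 241000 → ∀ x, x < cert.k → tabEntryOK cert tab n x = true :=
  rows_step cert tab rowsto_240 1000 rows_240

theorem rowsto_242 : ∀ n, n < 242000 → ∀ x, x < cert.k → tabEntryOK cert tab n x = true :=
  rows_step cert tab rowsto_241 1000 rows_241

theorem rowsto_243 : ∀ n, n < 243000 → ∀ x, x < cert.k → tabEntryOK cert tab n x = true :=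
  rows_step cert tab rowsto_242 1000 rows_242

theorem rowsto_244 : ∀ n, n < 244000 → ∀ x, x < cert.k → tabEntryOK cert tab n x = true :=
  rows_step cert tab rowsto_243 1000 rows_243

theorem rowsto_245 : ∀ n, n < 245000 → ∀ x, x < cert.k → tabEntryOK cert tab n x = true :=
  rows_step cert tab rowsto_244 1000 rows_244

theorem rowsto_246 : ∀ n, n < 245520 → ∀ x, x < cert.k → tabEntryOK cert tab n x = true :=
  rows_step cert tab rowsto_245 520 rows_245

theorem hT : ∀ n, n < tab.N → ∀ x, x < cert.k → tabEntryOK cert tab n x = true := rowsto_246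

theorem hjs : ∀ j ∈ js, relFactOK cert j = true := by decide +kernel

theorem h0 : ordOK cert js cs0 0 1 = true := by decide +kernel

theorem hgs : ∀ i, i < 5 → genOK cert js (css.getD i []) i 0 (as_.getD i 0) = true := by decide +kernel

end Cfsg.Agent.Helper5.ONB.B
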