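import Mathlib
import Cfsg.Agent.Helper3.Tower64

/-!
# Conjugation relators in towers of covering presentations

A central word of the form `V h V⁻¹ u⁻¹`, where `h` and `u` are words in the generators of the
smaller covering group and a power `h ^ n` with `n` prime to the exponent is central, takes its
value in the image of the smaller covering group.  Such words need no label in a labelled
Todd–Coxeter certificate (`Cfsg.Agent.Helper3.Tower64.covG_card_le_inK64`).
-/

set_option autoImplicit false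

namespace Cfsg.Agent.Helper5.ONB

open Cfsg.Agent.Helper5.LTC Cfsg.Agent.Helper5.StemP Cfsg.Agent.Helper5.LP
  Cfsg.Agent.Helper4.Tower

/-- a central element `ζ = v a v⁻¹ b⁻¹` of exponent `e`, with `a, b` in a subgroup `K` and `a ^ n`
central for some `n` prime to `e`, lies in `K`. -/
theorem mem_of_conj_pow {P : Type*} [Group P] (K : Subgroup P) {ζ a b v : P} (n e : ℕ)
    (hζc : ζ ∈ Subgroup.center P) (hζe : ζ ^ e = 1) (ha : a ∈ K) (hb : b ∈ K)
    (hrel : ζ = v * a * v⁻¹ * b⁻¹) (han : a ^ n ∈ Subgroup.center P) (hcop : Nat.Coprime n e) :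
    ζ ∈ K := by
  have h1 : v * a * v⁻¹ = ζ * b := by
    rw [hrel, inv_mul_cancel_right]
  have h2 : (v * a * v⁻¹) ^ n = a ^ n := by
    rw [conj_pow, Subgroup.mem_center_iff.mp han v, mul_inv_cancel_right]
  have hcomm : Commute ζ b := (Subgroup.mem_center_iff.mp hζc b).symm
  have h3 : (ζ * b) ^ n = ζ ^ n * b ^ n := hcomm.mul_pow n
  have h4 : ζ ^ n = a ^ n * (b ^ n)⁻¹ := by
    rw [h1, h3] at h2
    exact eq_mul_inv_of_mul_eq h2
  have h5 : ζ ^ n ∈ K := by
    rw [h4]
    exact K.mul_mem (K.pow_mem ha n) (K.inv_mem (K.pow_mem hb n))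
  have hb' := Nat.gcd_eq_gcd_ab n e
  rw [hcop] at hb'
  have h6 : ζ = (ζ ^ n) ^ (n.gcdA e) := by
    have h : ζ ^ ((1 : ℕ) : ℤ) = ζ ^ ((n : ℤ) * n.gcdA e + (e : ℤ) * n.gcdB e) := by rw [← hb']
    rw [zpow_add, zpow_mul, zpow_mul, zpow_natCast, zpow_natCast, zpow_natCast, hζe, one_zpow,
      mul_one, pow_one] at h
    exact h
  rw [h6]
  exact K.zpow_mem h5 _

section cov
variable (d' d : ℕ) (m : ℕ → ℕ) (CL EX : List (List ℕ)) (e : ℕ)

/-- the words in the generators of the smaller covering group take their values in its image. -/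
theorem word_mem_range (hd : d' ≤ d) (hCL : ∀ r ∈ CL, ∀ c ∈ r, c < 2 * d') (l : List ℕ)
    (hl : ∀ c ∈ l, c < 2 * d') :
    ev (2 * d) (coverRels d m (EX ++ CL) (EX ++ CL) e) l ∈ (phiT d' d m CL EX e hd hCL).range :=
  ⟨ev (2 * d') (coverRels d' m CL CL e) l, phiT_ev d' d m CL EX e hd hCL l hl⟩

/-- **conjugation relators take their values in the image of the smaller covering group.** -/
theorem conj_word_mem_range (hd : d' ≤ d) (hCL : ∀ r ∈ CL, ∀ c ∈ r, c < 2 * d')
    (hEX : ∀ r ∈ EX, ∀ c ∈ r, c < 2 * d) (V h u : List ℕ) (n : ℕ)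
    (hr : V ++ h ++ winv V ++ winv u ∈ EX ++ CL)
    (hV : ∀ c ∈ V, c < 2 * d) (hh : ∀ c ∈ h, c < 2 * d') (hu : ∀ c ∈ u, c < 2 * d')
    (hp : (List.replicate n h).flatten ∈
      (EX ++ CL) ++ coverRels d m (EX ++ CL) (EX ++ CL) e)
    (hcop : Nat.Coprime n e) :
    ev (2 * d) (coverRels d m (EX ++ CL) (EX ++ CL) e) (V ++ h ++ winv V ++ winv u) ∈
      (phiT d' d m CL EX e hd hCL).range := by
  have hlt := CC_lt d' d CL EX hd hCL hEX
  have hh' : ∀ c ∈ h, c < 2 * d := fun c hc => by have := hh c hc; omega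
  have hu' : ∀ c ∈ u, c < 2 * d := fun c hc => by have := hu c hc; omega
  refine mem_of_conj_pow _ n e (a := ev (2 * d) (coverRels d m (EX ++ CL) (EX ++ CL) e) h)
    (b := ev (2 * d) (coverRels d m (EX ++ CL) (EX ++ CL) e) u)
    (v := ev (2 * d) (coverRels d m (EX ++ CL) (EX ++ CL) e) V)
    (cover_center d m (EX ++ CL) (EX ++ CL) e hr (hlt _ hr)) ?_
    (word_mem_range d' d m CL EX e hd hCL h hh) (word_mem_range d' d m CL EX e hd hCL u hu)
    ?_ ?_ hcop
  · rw [ev_pow]
    exact ev_rel (mem_coverRels_T d m (EX ++ CL) (EX ++ CL) e hr)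
  · rw [ev_append, ev_append, ev_append, ev_winv d m (EX ++ CL) (EX ++ CL) e hV,
      ev_winv d m (EX ++ CL) (EX ++ CL) e hu']
  · rw [ev_pow]
    rcases List.mem_append.mp hp with h1 | h1
    · have hlt1 : ∀ c ∈ (List.replicate n h).flatten, c < 2 * d := hlt _ h1
      exact cover_center d m (EX ++ CL) (EX ++ CL) e h1 hlt1
    · rw [ev_rel h1]
      exact Subgroup.one_mem _

end cov

end Cfsg.Agent.Helper5.ONB
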