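import Mathlib
import Cfsg.Agent.Helper5.StemPE

/-!
# generated: the presentation of the O'Nan group used for the `2`-part of its Schur multiplier

Generators `x, y, z` of orders `19, 3, 3` (letters `0, 1 = x, x⁻¹`, `2, 3 = y, y⁻¹`, `4, 5 = z, z⁻¹`);
`⟨x, y⟩ = L₃(7)` has index `245520`.  The central words are `LAB` (labelled in the certificate),
`T3` (words `V h V⁻¹ u⁻¹` with `h, u` words in `x, y` of odd order `n`), `HP` (the words `h ^ n`) and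
`CU` (relators of `L₃(7)`).
-/

set_option autoImplicit false

namespace Cfsg.Agent.Helper5.ONB

/-- the orders of the generators. -/
def mm : ℕ → ℕ := fun i => if i = 0 then 19 else 3

/-- relators of `L₃(7) = ⟨x, y⟩`. -/
def CU : List (List ℕ) :=
  [[0, 2, 1, 2, 0, 3, 3, 1, 2],
  [0, 0, 2, 0, 2, 0, 3, 3, 0, 2, 0, 0, 3, 1, 3],
  [0, 0, 2, 1, 1, 2, 0, 0, 2, 1, 1, 3, 0, 0, 3, 1, 1, 2],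
  [0, 0, 2, 1, 3, 0, 0, 3, 1, 2, 0, 0, 2, 1, 3, 0, 2, 0, 3, 1, 2],
  [0, 0, 2, 0, 0, 2, 1, 2, 1, 3, 1, 1, 3, 0, 3, 0, 2, 0, 2, 0, 3, 1, 2]]

/-- the labelled central words. -/
def LAB : List (List ℕ) :=
  [[4, 2, 4, 2, 4, 2, 4, 2],
  [5, 1, 5, 0, 2, 1, 1, 2, 0, 2, 0, 3, 1, 2, 4, 0, 4, 2, 1, 1, 3, 0, 0, 3, 1, 2, 1, 3, 0, 0],
  [5, 1, 5, 0, 0, 2, 0, 0, 0, 0, 0, 3, 1, 1, 3, 0, 0, 4, 0, 4, 1, 1, 2, 0, 0, 2, 1, 1, 1, 1, 1, 3, 1, 1],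
  [0, 5, 0, 5, 2, 4, 1, 4, 1, 2],
  [0, 2, 5, 2, 1, 5, 2, 5, 2, 4]]

/-- the conjugating words of the conjugation relators. -/
def t3V : List (List ℕ) :=
  [[5],
  [5],
  [4, 1, 4],
  [4, 1, 4],
  [4, 3, 5],
  [4, 3, 5],
  [4, 3, 5],
  [4],
  [4],
  [5, 2, 5],
  [5, 2, 5],
  [5, 2, 5],
  [4, 3, 5, 1, 5],
  [4, 3, 5, 1, 5]]

/-- the conjugated words (in `x, y`) of the conjugation relators. -/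
def t3h : List (List ℕ) :=
  [[2, 1, 3, 1, 2],
  [0, 3, 1, 1, 1, 3, 0, 3, 0, 3],
  [0],
  [2],
  [2],
  [0, 0, 2, 1, 1, 2, 0, 2, 0, 3, 1],
  [1, 1, 3, 0, 0, 3, 1, 2, 1, 3, 0],
  [1, 2, 1, 3, 1, 2, 0],
  [2, 1, 3, 0, 0, 0, 2],
  [2],
  [0, 0, 2, 1, 1, 2, 0, 2, 0, 3, 1],
  [1, 1, 3, 0, 0, 3, 1, 2, 1, 3, 0],
  [0, 2, 1, 1, 2, 0, 0, 3, 1],
  [1, 3, 1, 1, 2, 0, 0, 3, 0, 0, 3]]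

/-- the values (words in `x, y`) of the conjugation relators. -/
def t3u : List (List ℕ) :=
  [[3, 1, 1, 1, 2, 0, 3],
  [1, 1, 2, 0, 0, 0, 2, 1, 2, 1, 1, 2, 0, 3],
  [1, 2, 0, 3, 1, 1, 1, 3, 0, 2, 1],
  [1, 1, 3, 0, 0, 2, 1, 3, 1, 2, 0, 0],
  [1, 3, 0, 2],
  [1, 2, 0, 0, 0, 3, 1, 2, 1, 3, 0, 0, 3, 1, 2],
  [1, 2, 1, 3, 0, 0, 3, 1, 3],
  [1, 3, 0, 2, 1, 1, 1, 3, 0],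
  [3, 0, 2, 0, 3],
  [1, 2, 0, 3],
  [1, 3, 0, 0, 0, 3, 1, 2, 1, 3, 0, 0, 3, 1],
  [1, 1, 2, 0, 2, 0, 3, 1, 2],
  [2, 1, 2, 1, 3, 0, 0, 3, 1, 2, 0],
  [3, 0, 3, 0, 0, 2, 1, 1, 1, 2, 0, 3]]

/-- the (odd) orders of the conjugated words. -/
def t3n : List ℕ := [3, 7, 19, 3, 3, 3, 3, 3, 3, 3, 3, 3, 3, 3]

/-- the conjugation relators `V h V⁻¹ u⁻¹`. -/
def T3 : List (List ℕ) :=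
  [[5, 2, 1, 3, 1, 2, 4, 2, 1, 3, 0, 0, 0, 2],
  [5, 0, 3, 1, 1, 1, 3, 0, 3, 0, 3, 4, 2, 1, 3, 0, 0, 3, 0, 3, 1, 1, 1, 3, 0, 0],
  [4, 1, 4, 0, 5, 0, 5, 0, 3, 1, 2, 0, 0, 0, 2, 1, 3, 0],
  [4, 1, 4, 2, 5, 0, 5, 1, 1, 3, 0, 2, 0, 3, 1, 1, 2, 0, 0],
  [4, 3, 5, 2, 4, 2, 5, 3, 1, 2, 0],
  [4, 3, 5, 0, 0, 2, 1, 1, 2, 0, 2, 0, 3, 1, 4, 2, 5, 3, 0, 2, 1, 1, 2, 0, 3, 0, 2, 1, 1, 1, 3, 0],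
  [4, 3, 5, 1, 1, 3, 0, 0, 3, 1, 2, 1, 3, 0, 4, 2, 5, 2, 0, 2, 1, 1, 2, 0, 3, 0],
  [4, 1, 2, 1, 3, 1, 2, 0, 5, 1, 2, 0, 0, 0, 3, 1, 2, 0],
  [4, 2, 1, 3, 0, 0, 0, 2, 5, 2, 1, 3, 1, 2],
  [5, 2, 5, 2, 4, 3, 4, 2, 1, 3, 0],
  [5, 2, 5, 0, 0, 2, 1, 1, 2, 0, 2, 0, 3, 1, 4, 3, 4, 0, 2, 1, 1, 2, 0, 3, 0, 2, 1, 1, 1, 2, 0],
  [5, 2, 5, 1, 1, 3, 0, 0, 3, 1, 2, 1, 3, 0, 4, 3, 4, 3, 0, 2, 1, 3, 1, 3, 0, 0],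
  [4, 3, 5, 1, 5, 0, 2, 1, 1, 2, 0, 0, 3, 1, 4, 0, 4, 2, 5, 1, 3, 0, 2, 1, 1, 2, 0, 3, 0, 3],
  [4, 3, 5, 1, 5, 1, 3, 1, 1, 2, 0, 0, 3, 0, 0, 3, 4, 0, 4, 2, 5, 2, 1, 3, 0, 0, 0, 3, 1, 1, 2, 1, 2]]

/-- powers of the conjugated words. -/
def HP : List (List ℕ) :=
  [[2, 1, 3, 1, 2, 2, 1, 3, 1, 2, 2, 1, 3, 1, 2],
  [0, 3, 1, 1, 1, 3, 0, 3, 0, 3, 0, 3, 1, 1, 1, 3, 0, 3, 0, 3, 0, 3, 1, 1, 1, 3, 0, 3, 0, 3, 0, 3, 1, 1, 1, 3, 0, 3, 0, 3, 0, 3, 1, 1, 1, 3, 0, 3, 0, 3, 0, 3, 1, 1, 1, 3, 0, 3, 0, 3, 0, 3, 1, 1, 1, 3, 0, 3, 0, 3],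
  [0, 0, 2, 1, 1, 2, 0, 2, 0, 3, 1, 0, 0, 2, 1, 1, 2, 0, 2, 0, 3, 1, 0, 0, 2, 1, 1, 2, 0, 2, 0, 3, 1],
  [1, 1, 3, 0, 0, 3, 1, 2, 1, 3, 0, 1, 1, 3, 0, 0, 3, 1, 2, 1, 3, 0, 1, 1, 3, 0, 0, 3, 1, 2, 1, 3, 0],
  [1, 2, 1, 3, 1, 2, 0, 1, 2, 1, 3, 1, 2, 0, 1, 2, 1, 3, 1, 2, 0],
  [2, 1, 3, 0, 0, 0, 2, 2, 1, 3, 0, 0, 0, 2, 2, 1, 3, 0, 0, 0, 2],
  [0, 0, 2, 1, 1, 2, 0, 2, 0, 3, 1, 0, 0, 2, 1, 1, 2, 0, 2, 0, 3, 1, 0, 0, 2, 1, 1, 2, 0, 2, 0, 3, 1],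
  [1, 1, 3, 0, 0, 3, 1, 2, 1, 3, 0, 1, 1, 3, 0, 0, 3, 1, 2, 1, 3, 0, 1, 1, 3, 0, 0, 3, 1, 2, 1, 3, 0],
  [0, 2, 1, 1, 2, 0, 0, 3, 1, 0, 2, 1, 1, 2, 0, 0, 3, 1, 0, 2, 1, 1, 2, 0, 0, 3, 1],
  [1, 3, 1, 1, 2, 0, 0, 3, 0, 0, 3, 1, 3, 1, 1, 2, 0, 0, 3, 0, 0, 3, 1, 3, 1, 1, 2, 0, 0, 3, 0, 0, 3]]

/-- the central words other than the relators of the subgroup. -/
def EX : List (List ℕ) := LAB ++ T3 ++ HP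

/-- all central words. -/
def CC : List (List ℕ) := EX ++ CU

end Cfsg.Agent.Helper5.ONB
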