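import Mathlib
import Cfsg.Agent.Helper5.ONB.Pres
import Cfsg.Agent.Helper5.ONB.Free
import Cfsg.Agent.Helper5.ONB.ASum
import Cfsg.Agent.Helper5.ONB.BSum

/-!
# The covering group of exponent 2 of the O'Nan group on generators of odd order

`19 < L₃(7) < O'N`: two labelled Todd–Coxeter certificates (98784 and 245520 cosets) bound the
order of the covering group of exponent 2 on the generators `x, y, z` of orders `19, 3, 3` by the
order of the O'Nan group.  No model of the group is needed: the conjugation relators take their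
values in the image of the covering group of `L₃(7)` (`conj_word_mem_range`).
-/

set_option autoImplicit false

namespace Cfsg.Agent.Helper5.ONB

open Cfsg Cfsg.Agent.Helper5.StemP Cfsg.Agent.Helper5.LP Cfsg.Agent.Helper5.LTC
  Cfsg.Agent.Helper3.LTC64 Cfsg.Agent.Helper3.Tower64 Cfsg.Agent.Helper4.Tower

/-- a letter of a word of a two-level list of words. -/
theorem mem_words2 {L : List (List (List ℕ))} {i j c : ℕ} (h : c ∈ (L.getD i []).getD j []) :
    ∃ g ∈ L, ∃ w ∈ g, c ∈ w := by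
  by_cases hi : i < L.length
  · rw [List.getD_eq_getElem _ _ hi] at h
    by_cases hj : j < L[i].length
    · rw [List.getD_eq_getElem _ _ hj] at h
      exact ⟨L[i], List.getElem_mem hi, L[i][j], List.getElem_mem hj, h⟩
    · rw [List.getD_eq_default _ _ (by omega)] at h
      simp at h
  · have e0 : L.getD i [] = [] := List.getD_eq_default _ _ (by omega)
    rw [e0] at h
    simp at h

theorem CU_lt : ∀ r ∈ CU, ∀ c ∈ r, c < 2 * 2 := by decide

theorem EX_lt : ∀ r ∈ EX, ∀ c ∈ r, c < 2 * 3 := by decide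

/-! ### the first stage: `L₃(7)` over the cyclic group of order 19 -/

theorem words_lt_A : ∀ wi, ∀ c ∈ A.cert.W wi, c < 2 * 2 := by
  intro wi c hc
  have h : ∀ g ∈ A.words2, ∀ w ∈ g, ∀ c ∈ w, c < 4 := by decide +kernel
  change c ∈ (A.words2.getD (Nat.div wi 16) []).getD (Nat.mod wi 16) [] at hc
  obtain ⟨g, hg, w, hw, hcw⟩ := mem_words2 hc
  exact h g hg w hw c hcw

set_option maxRecDepth 1000000 in
theorem wordOK_A : ∀ wi, wi < A.cert.nrel →
    wordOK3 (coverRels 2 mm (CU ++ []) (CU ++ []) 2) (CU ++ []) CU.length (A.cert.W wi)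
      (A.cert.δ wi) (A.origs.getD wi 0) = true := by decide +kernel

theorem hsubW_A : ∀ wi, A.cert.nrel ≤ wi → wi < A.cert.nw →
    ∃ c, c < 2 * 1 ∧ A.cert.W wi = [c] := by
  intro wi h1 h2
  have h1' : 93 ≤ wi := h1
  have h2' : wi < 94 := h2
  interval_cases wi
  · exact ⟨0, by norm_num, by decide +kernel⟩

/-- the covering group of exponent 2 of `L₃(7)` on the generators `x, y`. -/
theorem card_A : Finite (CovG 2 mm CU CU 2) ∧ Nat.card (CovG 2 mm CU CU 2) ≤ 1876896 := by
  have h := step64 1 2 mm [] CU 2 (by norm_num) (by simp) CU_lt (by norm_num) (by decide)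
    (mm 0) (Cfsg.Agent.Helper4.Tower.base mm 2 (by decide)) A.cert rfl rfl rfl words_lt_A
    (fun wi => A.origs.getD wi 0) wordOK_A hsubW_A A.hchk A.tab (by decide +kernel)
    (by decide) A.hT A.js A.hjs 0 1 (by norm_num) (by norm_num) A.cs0 A.h0
    (fun i => A.as_.getD i 0) (fun i => A.css.getD i []) A.hgs
  have hN : A.tab.N = 98784 := rfl
  rw [hN] at h
  rw [List.append_nil] at h
  exact ⟨h.1, h.2.trans (by decide)⟩

/-! ### the second stage: `O'N` over `L₃(7)` -/

theorem hd23 : 2 ≤ 3 := by norm_num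

theorem EX_length : EX.length = 29 := by decide

theorem t3_form : ∀ j, j < 14 → (EX ++ CU).getD (5 + j) [] =
    t3V.getD j [] ++ t3h.getD j [] ++ winv (t3V.getD j []) ++ winv (t3u.getD j []) := by decide

theorem t3_mem : ∀ j, j < 14 →
    t3V.getD j [] ++ t3h.getD j [] ++ winv (t3V.getD j []) ++ winv (t3u.getD j []) ∈ EX ++ CU := by
  decide

theorem t3V_lt : ∀ j, j < 14 → ∀ c ∈ t3V.getD j [], c < 2 * 3 := by decide

theorem t3h_lt : ∀ j, j < 14 → ∀ c ∈ t3h.getD j [], c < 2 * 2 := by decide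

theorem t3u_lt : ∀ j, j < 14 → ∀ c ∈ t3u.getD j [], c < 2 * 2 := by decide

theorem t3_cop : ∀ j, j < 14 → Nat.Coprime (t3n.getD j 0) 2 := by decide

set_option maxRecDepth 1000000 in
theorem t3_pow : ∀ j, j < 14 → (List.replicate (t3n.getD j 0) (t3h.getD j [])).flatten ∈
    (EX ++ CU) ++ coverRels 3 mm (EX ++ CU) (EX ++ CU) 2 := by decide +kernel

theorem hp_lt : ∀ i, i < 29 → 19 ≤ i → ∀ c ∈ (EX ++ CU).getD i [], c < 2 * 2 := by decide

/-- the unlabelled central words take their values in the image of the covering group of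
`L₃(7)`. -/
theorem hzn_B : ∀ i, 5 ≤ i → zC 3 mm (EX ++ CU) (EX ++ CU) 2 i ∈
    (phiT 2 3 mm CU EX 2 hd23 CU_lt).range := by
  intro i hi
  by_cases h29 : EX.length ≤ i
  · exact zC_mem_range 2 3 mm CU EX 2 hd23 CU_lt i h29
  · rw [EX_length] at h29
    by_cases h19 : 19 ≤ i
    · unfold zC
      exact word_mem_range 2 3 mm CU EX 2 hd23 CU_lt _ (hp_lt i (by omega) h19)
    · obtain ⟨j, rfl⟩ : ∃ j, i = 5 + j := ⟨i - 5, by omega⟩
      have hj : j < 14 := by omega
      unfold zC
      rw [t3_form j hj]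
      exact conj_word_mem_range 2 3 mm CU EX 2 hd23 CU_lt EX_lt _ _ _ (t3n.getD j 0)
        (t3_mem j hj) (t3V_lt j hj) (t3h_lt j hj) (t3u_lt j hj) (t3_pow j hj) (t3_cop j hj)

theorem words_lt_B : ∀ wi, ∀ c ∈ B.cert.W wi, c < 2 * 3 := by
  intro wi c hc
  have h : ∀ g ∈ B.words2, ∀ w ∈ g, ∀ c ∈ w, c < 6 := by decide +kernel
  change c ∈ (B.words2.getD (Nat.div wi 16) []).getD (Nat.mod wi 16) [] at hc
  obtain ⟨g, hg, w, hw, hcw⟩ := mem_words2 hc
  exact h g hg w hw c hcw

set_option maxRecDepth 1000000 in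
theorem wordOK_B : ∀ wi, wi < B.cert.nrel →
    wordOK3 (coverRels 3 mm (EX ++ CU) (EX ++ CU) 2) (EX ++ CU) 5 (B.cert.W wi)
      (B.cert.δ wi) (B.origs.getD wi 0) = true := by decide +kernel

theorem hsubW_B : ∀ wi, B.cert.nrel ≤ wi → wi < B.cert.nw →
    ∃ c, c < 2 * 2 ∧ B.cert.W wi = [c] := by
  intro wi h1 h2
  have h1' : 487 ≤ wi := h1
  have h2' : wi < 489 := h2
  interval_cases wi
  · exact ⟨0, by norm_num, by decide +kernel⟩
  · exact ⟨2, by norm_num, by decide +kernel⟩

/-- **the covering group of exponent 2 of the O'Nan group on the generators `x, y, z` of orders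
`19, 3, 3` has order at most `|O'N|`.** -/
theorem card_B : Finite (CovG 3 mm CC CC 2) ∧ Nat.card (CovG 3 mm CC CC 2) ≤ 460815505920 := by
  have hA := card_A
  have hfA : Finite (CovG 2 mm CU CU 2) := hA.1
  have hKfin : Finite (phiT 2 3 mm CU EX 2 hd23 CU_lt).range :=
    Finite.of_surjective (phiT 2 3 mm CU EX 2 hd23 CU_lt).rangeRestrict
      (phiT 2 3 mm CU EX 2 hd23 CU_lt).rangeRestrict_surjective
  have hKcard : Nat.card (phiT 2 3 mm CU EX 2 hd23 CU_lt).range ≤ 1876896 :=
    (Nat.card_le_card_of_surjective (phiT 2 3 mm CU EX 2 hd23 CU_lt).rangeRestrict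
      (phiT 2 3 mm CU EX 2 hd23 CU_lt).rangeRestrict_surjective).trans hA.2
  have h := covG_card_le_inK64 3 mm (EX ++ CU) (EX ++ CU) 2 B.cert rfl rfl rfl (by norm_num)
    (fun r hr => hr) (CC_lt 2 3 CU EX hd23 CU_lt EX_lt) 5 (by norm_num)
    (phiT 2 3 mm CU EX 2 hd23 CU_lt).range hzn_B words_lt_B (fun wi => B.origs.getD wi 0)
    wordOK_B (subW_mem_range 2 3 mm CU EX 2 hd23 CU_lt B.cert hsubW_B) B.hchk B.tab
    (by decide +kernel) (by decide) B.hT B.js B.hjs 0 1 (by norm_num) (by norm_num) B.cs0 B.h0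
    (fun i => B.as_.getD i 0) (fun i => B.css.getD i []) B.hgs
  have hN : B.tab.N = 245520 := rfl
  rw [hN] at h
  refine ⟨h.1, h.2.trans ?_⟩
  calc Nat.card (phiT 2 3 mm CU EX 2 hd23 CU_lt).range * 245520 * 1
      ≤ 1876896 * 245520 * 1 := Nat.mul_le_mul_right _ (Nat.mul_le_mul_right _ hKcard)
    _ = 460815505920 := by norm_num

end Cfsg.Agent.Helper5.ONB
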